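import Mathlib
import Cfsg.Agent.Lib.Cls.Basic
import Cfsg.Agent.Lib.Mod.PReduce
import Cfsg.Agent.Lib.Frob.QuatSquare
import Cfsg.Agent.Lib.Transfer.SylowIn
import Cfsg.Agent.Lib.OO.Final

/-!
The `f² - 1` elements of order dividing `f` have abelian centralizers of order `f`.
-/

set_option autoImplicit false

namespace Cfsg.Agent.ODD

open Subgroup

universe u

variable {G : Type u} [Group G] [Finite G]

/-- If all `p`-local subgroups are `p`-closed then the Sylow `p`-subgroups are TI. -/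
theorem sylow_eq_of_closed {p : ℕ} [Fact p.Prime]
    (h : ∀ D : Subgroup G, IsPGroup p D → D ≠ ⊥ → ∃ E : Subgroup G, IsPGroup p E ∧
      ∀ X ≤ normalizer (D : Set G), IsPGroup p X → X ≤ E) (P Q : Sylow p G)
    (hPQ : (P : Subgroup G) ⊓ Q ≠ ⊥) : P = Q := by
  suffices H : ∀ D : Subgroup G, ∀ P Q : Sylow p G, (P : Subgroup G) ⊓ Q = D → D ≠ ⊥ → P = Q from
    H _ P Q rfl hPQ
  intro D
  induction D using WellFoundedGT.induction with
  | ind D ih =>
  intro P Q hD D1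
  by_contra hne
  obtain ⟨E, hE, hle⟩ := h D (hD ▸ P.2.to_inf_left) D1
  obtain ⟨R, hR⟩ := hE.exists_le_sylow
  have key : ∀ S : Sylow p G, D < S → S = R := fun S hS => by
    have h1 := (Transfer.lt_inf_normalizer_of_lt S.2 hS).trans_le
      (le_inf inf_le_left ((hle _ inf_le_right S.2.to_inf_left).trans hR))
    exact ih _ h1 S R rfl (ne_bot_of_gt h1)
  exact hne ((key P (hD ▸ Transfer.sylow_inf_lt_left hne)).trans
    (key Q (hD ▸ Transfer.sylow_inf_lt_right hne)).symm)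

/-- an odd order group of exponent `p` with trivial `p'`-core is `p`-closed -/
theorem le_pCore_of_odd {p : ℕ} [hp : Fact p.Prime] (hp2 : p ≠ 2) (hG : Odd (Nat.card G))
    (he : Mod.PExp p 1 G) (h0 : pPrimeCore p G = ⊥) {X : Subgroup G} (hX : IsPGroup p X) :
    X ≤ pCore p G := fun x hx => by
  have h1 := he.quotient (Coprime.isPSolvable_of_isSolvable (OO.Feit_Thompson hG))
    (Mod.noExc_of_odd hp2 (Or.inr fun S => by
      have : (S : Subgroup G) = ⊥ := by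
        obtain ⟨n, hn⟩ := S.2.exists_card_eq
        rw [← card_eq_one, hn]
        exact ((Nat.coprime_two_left.2 hG).pow_left n).eq_one_of_dvd (hn ▸ card_subgroup_dvd_card _)
      rw [this]
      infer_instance))
  obtain ⟨k, hk⟩ := hX ⟨x, hx⟩
  have hk' : x ^ p ^ k = 1 := congrArg Subtype.val hk
  have := h1 (x : G ⧸ pPrimePCore p G) ⟨k, by rw [← QuotientGroup.mk_pow, hk', QuotientGroup.mk_one]⟩
  rwa [pow_zero, pow_one, QuotientGroup.eq_one_iff, Core.pPrimePCore_eq_pCore h0] at this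

variable (G) in
/-- the output of the character theory -/
structure Unip (m : ℕ) : Prop where
  m_pos : 0 < m
  card : Nat.card G = (2 * m + 1) * (m * (2 * m + 2))
  ncard : {y : G | y ≠ 1 ∧ y ^ (2 * m + 1) = 1}.ncard = 2 * (m * (2 * m + 2))
  cent : ∀ y : G, y ≠ 1 → y ^ (2 * m + 1) = 1 → Nat.card (centralizer ({y} : Set G)) ∣ 2 * m + 1

namespace Unip

variable {m : ℕ} (h : Unip G m)
include h

omit [Finite G] h in
theorem conj_subset {y : G} (y1 : y ≠ 1) (hy : y ^ (2 * m + 1) = 1) :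
    conjugatesOf y ⊆ {y : G | y ≠ 1 ∧ y ^ (2 * m + 1) = 1} := fun z hz => by
  obtain ⟨c, rfl⟩ := isConj_iff.1 hz
  exact ⟨fun e => y1 (conj_eq_one_iff.1 e), by rw [conj_pow, hy]; simp⟩

theorem card_cent {y : G} (y1 : y ≠ 1) (hy : y ^ (2 * m + 1) = 1) :
    Nat.card (centralizer ({y} : Set G)) = 2 * m + 1 ∧
      (conjugatesOf y).ncard = m * (2 * m + 2) := by
  obtain ⟨c, hc⟩ := h.cent y y1 hy
  have h1 := Set.ncard_le_ncard (conj_subset y1 hy) (Set.toFinite _)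
  have h2 := (centralizer ({y} : Set G)).card_mul_index
  rw [h.ncard] at h1
  rw [h.card, ← Cls.ncard_conjugatesOf] at h2
  nth_rw 1 [hc] at h2
  rw [mul_assoc, mul_right_inj' Nat.card_pos.ne'] at h2
  have h3 : 0 < m * (2 * m + 2) := Nat.mul_pos h.m_pos (by omega)
  have h4 : c ≤ 2 := le_of_mul_le_mul_right (h2 ▸ h1) h3
  interval_cases c <;> omega

theorem fpf {u y : G} (u2 : u * u = 1) (u1 : u ≠ 1) (hy : y ^ (2 * m + 1) = 1)
    (e : u * y = y * u) : y = 1 := by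
  by_contra y1
  have h1 := orderOf_dvd_natCard (⟨u, Cls.mem_centralizer_single.2 e⟩ : centralizer ({y} : Set G))
  rw [← orderOf_coe, orderOf_eq_prime ((sq u).trans u2) u1, (h.card_cent y1 hy).1] at h1
  omega

theorem pow_of_mem {y x : G} (y1 : y ≠ 1) (hy : y ^ (2 * m + 1) = 1)
    (hx : x ∈ centralizer ({y} : Set G)) : x ^ (2 * m + 1) = 1 :=
  congrArg Subtype.val ((h.card_cent y1 hy).1 ▸ pow_card_eq_one' (x := (⟨x, hx⟩ : centralizer _)))

theorem ab_of_real {y : G} (y1 : y ≠ 1) (hy : y ^ (2 * m + 1) = 1) (hr : IsConj y y⁻¹) :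
    IsMulCommutative (centralizer ({y} : Set G)) := by
  obtain ⟨g, hg⟩ := isConj_iff.1 hr
  have h1 : g * g ∈ centralizer ({y} : Set G) := by
    rw [Cls.mem_centralizer_single, ← mul_inv_eq_iff_eq_mul]
    calc g * g * y * (g * g)⁻¹ = g * (g * y * g⁻¹) * g⁻¹ := by group
      _ = g * y⁻¹ * g⁻¹ := by rw [hg]
      _ = (g * y * g⁻¹)⁻¹ := by group
      _ = _ := by rw [hg, inv_inv]
  have h2 : (g * (g * g) ^ m) * y * (g * (g * g) ^ m)⁻¹ = y⁻¹ := by
    rw [mul_assoc g, Cls.mem_centralizer_single.1 (pow_mem h1 m), ← hg]; group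
  have h3 : (g * (g * g) ^ m) * (g * (g * g) ^ m) = 1 := by
    rw [← h.pow_of_mem y1 hy h1, ← sq, ← sq, ← pow_mul, ← pow_succ', ← pow_mul, ← pow_mul, mul_comm]
  generalize g * (g * g) ^ m = u at h2 h3
  have u1 : u ≠ 1 := by
    rintro rfl
    have : y * y = 1 := by nth_rw 1 [← inv_inv y, ← h2]; simp
    exact y1 (h.fpf this y1 hy rfl)
  refine Frob.isMulCommutative_of_conj_eq_inv (z := u) fun x hx =>
    Frob.conj_eq_inv_of_fpf h3 ?_ (fun k hk e => h.fpf h3 u1 (h.pow_of_mem y1 hy hk) e) hx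
  rw [mem_normalizer_iff]
  intro x
  rw [← Cls.centralizer_single_inv y]
  nth_rw 2 [← h2]
  rw [Cls.centralizer_single_inv, Cls.mem_centralizer_single, Cls.mem_centralizer_single]
  refine ⟨fun e => ?_, fun e => ?_⟩
  · calc _ = u * (x * y) * u⁻¹ := by group
      _ = _ := by rw [e]; group
  · calc _ = u⁻¹ * (u * x * u⁻¹ * (u * y * u⁻¹)) * u := by group
      _ = _ := by rw [e]; group

omit [Finite G] h in
theorem coprime : (2 * m + 1).Coprime (m * (2 * m + 2)) :=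
  Nat.Coprime.mul_right (by simp) (by simp [show 2 * m + 2 = 2 * m + 1 + 1 from rfl])

theorem exists_ab : ∃ y : G, y ≠ 1 ∧ y ^ (2 * m + 1) = 1 ∧
    IsMulCommutative (centralizer ({y} : Set G)) := by
  have hm := h.m_pos
  have ex : ∀ q : ℕ, q.Prime → q ∣ 2 * m + 1 → ∃ y : G, y ≠ 1 ∧ y ^ (2 * m + 1) = 1 ∧ orderOf y = q :=
    fun q hq hd => by
      have := Fact.mk hq
      obtain ⟨y, hy⟩ := exists_prime_orderOf_dvd_card' (G := G) q (h.card ▸ hd.mul_right _)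
      exact ⟨y, fun e => hq.one_lt.ne (by rw [← hy, e, orderOf_one]),
        orderOf_dvd_iff_pow_eq_one.1 (hy ▸ hd), hy⟩
  by_cases hr : ∃ y : G, y ≠ 1 ∧ y ^ (2 * m + 1) = 1 ∧ IsConj y y⁻¹
  · obtain ⟨y, y1, hy, hr⟩ := hr
    exact ⟨y, y1, hy, h.ab_of_real y1 hy hr⟩
  push Not at hr
  obtain ⟨p, hp, hpd⟩ := Nat.exists_prime_and_dvd (show 2 * m + 1 ≠ 1 by omega)
  have := Fact.mk hp
  obtain ⟨y, y1, hy, ho⟩ := ex p hp hpd
  have hy' : y⁻¹ ^ (2 * m + 1) = 1 := by rw [inv_pow, hy, inv_one]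
  have h1 : conjugatesOf y ∪ conjugatesOf y⁻¹ = {y : G | y ≠ 1 ∧ y ^ (2 * m + 1) = 1} := by
    refine Set.eq_of_subset_of_ncard_le (Set.union_subset (conj_subset y1 hy)
      (conj_subset (inv_ne_one.2 y1) hy')) ?_
    rw [Set.ncard_union_eq (Set.disjoint_left.2 fun z h1 h2 => hr y y1 hy (h1.trans h2.symm)),
      h.ncard, (h.card_cent y1 hy).2, (h.card_cent (inv_ne_one.2 y1) hy').2, two_mul]
  have h2 : ∀ z : G, z ≠ 1 → z ^ (2 * m + 1) = 1 → orderOf z = p := fun z z1 hz => by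
    rcases h1.ge ⟨z1, hz⟩ with e | e <;> obtain ⟨c, rfl⟩ := isConj_iff.1 e
    · rw [← ho]; exact (MulAut.conj c).orderOf_eq y
    · rw [← ho, ← orderOf_inv y]; exact (MulAut.conj c).orderOf_eq _
  obtain ⟨n, hn⟩ := Cls.eq_pow_of_forall_prime_eq (p := p) (show 2 * m + 1 ≠ 0 by omega)
    fun q hq hd => by
      obtain ⟨z, z1, hz, rfl⟩ := ex q hq hd
      exact h2 z z1 hz
  have h3 : ∀ {d k : ℕ}, d ∣ p ^ k → d ∣ Nat.card G → d ∣ 2 * m + 1 := fun hd hG =>
    (((coprime.coprime_dvd_left hpd).pow_left _).coprime_dvd_left hd).dvd_of_dvd_mul_right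
      (h.card ▸ hG)
  have h4 : ∀ {x : G} {k : ℕ}, x ^ p ^ k = 1 → x ^ (2 * m + 1) = 1 := fun hx =>
    orderOf_dvd_iff_pow_eq_one.1 (h3 (orderOf_dvd_of_pow_eq_one hx) (orderOf_dvd_natCard _))
  have h5 : ∀ {D : Subgroup G}, IsPGroup p D → ∀ x ∈ D, x ^ (2 * m + 1) = 1 := fun hD x hx => by
    obtain ⟨k, hk⟩ := hD ⟨x, hx⟩
    exact h4 (congrArg Subtype.val hk)
  have hTI := sylow_eq_of_closed (G := G) (p := p) fun D hD D1 => by
    obtain ⟨d, hd, d1⟩ := (bot_or_exists_ne_one D).resolve_left D1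
    refine ⟨pCoreOf p (normalizer (D : Set G)), Core.isPGroup_pCoreOf _, fun X hX hXp x hx => ?_⟩
    refine ⟨⟨x, hX hx⟩, le_pCore_of_odd (by rintro rfl; omega) ?_ ?_ ?_
      (hXp.comap_subtype (K := normalizer (D : Set G))) hx, rfl⟩
    · by_contra he
      obtain ⟨u, hu⟩ := exists_prime_orderOf_dvd_card' 2 (even_iff_two_dvd.1 (Nat.not_odd_iff_even.1 he))
      have u2 : (u : G) * u = 1 := by rw [← coe_mul, ← sq, ← hu, pow_orderOf_eq_one, coe_one]
      have u1 : (u : G) ≠ 1 := fun e => by rw [show u = 1 from Subtype.ext e] at hu; simp at hu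
      exact hr d d1 (h5 hD d hd) (isConj_iff.2 ⟨u, Frob.conj_eq_inv_of_fpf u2 u.2
        (fun k hk e => h.fpf u2 u1 (h5 hD k hk) e) hd⟩)
    · rintro x ⟨k, hk⟩
      by_cases x1 : (x : G) = 1
      · rw [show x = 1 from Subtype.ext x1, one_pow]
      · rw [pow_one, ← h2 x x1 (h4 (congrArg Subtype.val hk)), orderOf_coe, pow_orderOf_eq_one]
    · refine eq_bot_iff.2 fun x hx => ?_
      have e := Core.pPrimeCore_le_centralizer_pCore hx ⟨d, le_normalizer hd⟩
        (Core.le_pCore (N := D.subgroupOf _) hD.comap_subtype hd)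
      have h6 := h.pow_of_mem d1 (h5 hD d hd)
        (Cls.mem_centralizer_single.2 (congrArg Subtype.val e).symm)
      have h7 := (Core.coprime_card_pPrimeCore p).coprime_dvd_left (orderOf_dvd_natCard ⟨x, hx⟩)
      rw [mem_bot, ← orderOf_eq_one_iff]
      rw [← orderOf_coe] at h7
      rw [hn, ← orderOf_dvd_iff_pow_eq_one, orderOf_coe] at h6
      exact (h7.pow_right n).eq_one_of_dvd h6
  have h6 : ∀ x : G, x ≠ 1 → x ^ (2 * m + 1) = 1 → ∃ Q : Sylow p G, centralizer ({x} : Set G) = Q :=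
    fun x x1 hx => by
      obtain ⟨Q, hQ⟩ := (IsPGroup.of_card ((h.card_cent x1 hx).1.trans hn)).exists_le_sylow
      obtain ⟨k, hk⟩ := Q.2.exists_card_eq
      refine ⟨Q, eq_of_le_of_card_ge hQ ?_⟩
      rw [(h.card_cent x1 hx).1]
      exact Nat.le_of_dvd (by omega) (h3 hk.dvd (card_subgroup_dvd_card _))
  obtain ⟨P, hP⟩ := h6 y y1 hy
  refine ⟨y, y1, hy, ⟨⟨fun a b => Subtype.ext ?_⟩⟩⟩
  by_cases b1 : (b : G) = 1
  · simp [b1]
  obtain ⟨Q, hQ⟩ := h6 b b1 (h.pow_of_mem y1 hy b.2)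
  obtain rfl := hTI P Q fun e => b1 (mem_bot.1 (e ▸ ⟨hP ▸ b.2, hQ ▸ Cls.self_mem_centralizer_single _⟩))
  exact Cls.mem_centralizer_single.1 (hQ ▸ hP ▸ a.2)

end Unip

end Cfsg.Agent.ODD
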