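import Mathlib
import Cfsg.Agent.Lib.Cls.Basic
import Cfsg.Agent.Lib.PGrp.Basic

/-!
The hypothesis of the Brauer-Suzuki-Wall theorem (odd case) and its first consequences.
-/

set_option autoImplicit false

namespace Cfsg.Agent.ODD

open Subgroup

variable {G : Type*} [Group G]

structure Hyp (K : Subgroup G) (t s : G) : Prop where
  tK : t ∈ K
  t1 : t ≠ 1
  t2 : t * t = 1
  sK : s ∉ K
  s2 : s * s = 1
  inv : ∀ x ∈ K, s * x * s⁻¹ = x⁻¹
  cent : ∀ g : G, g * t = t * g ↔ g ∈ K ∨ g * s ∈ K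
  ti : ∀ x ∈ K, x ≠ 1 → ∀ g : G, g * x * g⁻¹ ∈ K → g * t = t * g
  one_class : ∀ a b : G, a ≠ 1 → a * a = 1 → b ≠ 1 → b * b = 1 → IsConj a b

namespace Hyp

variable {K : Subgroup G} {t s : G} (h : Hyp K t s)
include h

theorem comm {x y : G} (hx : x ∈ K) (hy : y ∈ K) : x * y = y * x := by
  have h1 := h.inv _ (mul_mem hx hy)
  rw [show s * (x * y) * s⁻¹ = (s * x * s⁻¹) * (s * y * s⁻¹) by group, h.inv _ hx, h.inv _ hy,
    ← mul_inv_rev] at h1
  exact (inv_injective h1).symm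

theorem ab : IsMulCommutative K := ⟨⟨fun x y => Subtype.ext (h.comm x.2 y.2)⟩⟩

theorem s_inv : s⁻¹ = s := inv_eq_of_mul_eq_one_right h.s2

theorem comm_t {x : G} (hx : x ∈ K) : x * t = t * x := h.comm hx h.tK

theorem inv_of_not_mem {g : G} (hg : g * t = t * g) (hK : g ∉ K) {y : G} (hy : y ∈ K) :
    g * y * g⁻¹ = y⁻¹ := by
  have hx := (h.cent g).1 hg |>.resolve_left hK
  calc g * y * g⁻¹ = g * s * (s⁻¹ * y * s) * (g * s)⁻¹ := by group
    _ = g * s * y⁻¹ * (g * s)⁻¹ := by nth_rw 1 [← h.inv y hy, h.s_inv, h.s_inv]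
    _ = _ := by rw [h.comm hx (inv_mem hy)]; group

theorem mul_self_of_not_mem {g : G} (hg : g * t = t * g) (hK : g ∉ K) : g * g = 1 := by
  have hx := (h.cent g).1 hg |>.resolve_left hK
  calc g * g = g * s * (s⁻¹ * (g * s) * s⁻¹) := by group
    _ = _ := by nth_rw 1 [h.s_inv]; rw [h.inv _ hx, mul_inv_cancel]

theorem eq_t {u : G} (hu : u ∈ K) (u1 : u ≠ 1) (u2 : u * u = 1) : u = t := by
  obtain ⟨g, rfl⟩ := isConj_iff.1 (h.one_class _ _ h.t1 h.t2 u1 u2)
  rw [h.ti t h.tK h.t1 g hu, mul_inv_cancel_right]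

theorem s_comm : s * t = t * s := (h.cent s).2 (Or.inr (h.s2 ▸ one_mem _))

omit h in
theorem mul_not_mem {g y : G} (hK : g ∉ K) (hy : y ∈ K) : g * y ∉ K := fun e =>
  hK (by simpa using mul_mem e (inv_mem hy))

theorem map (e : G ≃* G) : Hyp (K.map e.toMonoidHom) (e t) (e s) where
  tK := mem_map_of_mem _ h.tK
  t1 := by simpa using h.t1
  t2 := by rw [← map_mul, h.t2, map_one]
  sK := by simpa using h.sK
  s2 := by rw [← map_mul, h.s2, map_one]
  inv := by
    rintro _ ⟨x, hx, rfl⟩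
    simpa using congrArg e (h.inv x hx)
  cent g := by
    obtain ⟨g, rfl⟩ := e.surjective g
    simp only [← map_mul, e.injective.eq_iff, h.cent, mem_map_equiv, MulEquiv.symm_apply_apply]
  ti := by
    rintro _ ⟨x, hx, rfl⟩ x1 g hg
    obtain ⟨g, rfl⟩ := e.surjective g
    have : g * x * g⁻¹ ∈ K := by simpa using mem_map_equiv.1 hg
    simpa using congrArg e (h.ti x hx (by simpa using x1) g this)
  one_class := h.one_class

theorem exists_hyp {u : G} (u1 : u ≠ 1) (u2 : u * u = 1) :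
    ∃ (K' : Subgroup G) (s' : G), Hyp K' u s' ∧ Nat.card K' = Nat.card K := by
  obtain ⟨g, rfl⟩ := isConj_iff.1 (h.one_class _ _ h.t1 h.t2 u1 u2)
  exact ⟨_, _, h.map (MulAut.conj g), card_map_of_injective (MulAut.conj g).injective⟩

theorem le_cent : K ≤ centralizer ({t} : Set G) := fun _ hx =>
  Cls.mem_centralizer_single.2 (h.comm_t hx)

theorem relIndex : K.relIndex (centralizer ({t} : Set G)) = 2 := by
  rw [Subgroup.relIndex, index_eq_two_iff]
  refine ⟨⟨s, Cls.mem_centralizer_single.2 h.s_comm⟩, fun b => ?_⟩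
  simp only [mem_subgroupOf, coe_mul]
  by_cases hb : (b : G) ∈ K
  · refine Or.inr ⟨hb, fun e => h.sK ?_⟩
    simpa using mul_mem (inv_mem hb) e
  · exact Or.inl ⟨((h.cent b).1 (Cls.mem_centralizer_single.1 b.2)).resolve_left hb, hb⟩

theorem card_cent : Nat.card (centralizer ({t} : Set G)) = 2 * Nat.card K := by
  rw [← PGrp.card_mul_relIndex h.le_cent, h.relIndex, mul_comm]

theorem card_eq : Nat.card G = 2 * Nat.card K * (centralizer ({t} : Set G)).index := by
  rw [← h.card_cent, card_mul_index]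

theorem orderOf_t : orderOf t = 2 := orderOf_eq_prime ((sq t).trans h.t2) h.t1

theorem two_dvd : 2 ∣ Nat.card K := by
  rw [← h.orderOf_t]
  exact K.orderOf_dvd_natCard h.tK

/-- an element commuting with a conjugate of a nonidentity element of `K` is conjugate into `K` -/
theorem conj_mem_of_comm {y z c : G} (z1 : z ≠ 1) (hz : c * z * c⁻¹ ∈ K) (e : y * z = z * y) :
    ∃ g : G, g * y * g⁻¹ ∈ K := by
  by_contra hn
  push Not at hn
  have h1 := h.ti _ hz (fun e => z1 (conj_eq_one_iff.1 e)) (c * y * c⁻¹) (by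
    convert hz using 1
    calc _ = c * (y * z) * y⁻¹ * c⁻¹ := by group
      _ = _ := by rw [e]; group)
  obtain ⟨g, hg⟩ := isConj_iff.1 (h.one_class _ _ (fun e => hn c (by rw [e]; exact one_mem _))
    (h.mul_self_of_not_mem h1 (hn c)) h.t1 h.t2)
  exact hn (g * c) (by convert hg ▸ h.tK using 1; group)

variable [Finite G]

theorem odd_index : Odd (centralizer ({t} : Set G)).index := by
  obtain ⟨S, hS⟩ := (IsPGroup.of_card (p := 2) (n := 1) (G := zpowers t)
    (by rw [Nat.card_zpowers, h.orderOf_t, pow_one])).exists_le_sylow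
  have : Nontrivial S := ⟨⟨t, hS (mem_zpowers t)⟩, 1, fun e => h.t1 (congrArg Subtype.val e)⟩
  obtain ⟨z, -, hz, ho⟩ := PGrp.exists_mem_center_orderOf_eq S.2 (N := ⊤) top_ne_bot
  rw [← orderOf_coe] at ho
  rw [Cls.index_centralizer_of_isConj (h.one_class z t (fun e => by simp [e] at ho)
    ((sq _).symm.trans (orderOf_dvd_iff_pow_eq_one.1 ho.dvd)) h.t1 h.t2), ← Nat.not_even_iff_odd, even_iff_two_dvd]
  exact Cls.not_dvd_index_of_sylow_le (Q := S) fun x hx => Cls.mem_centralizer_single.2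
    (congrArg Subtype.val (mem_center_iff.1 hz ⟨x, hx⟩))

theorem exists_conj_mem {p : ℕ} (hp : p.Prime) (hd : p ∣ Nat.card K) {z : G} (hz : orderOf z = p) :
    ∃ g : G, g * z * g⁻¹ ∈ K := by
  have := Fact.mk hp
  by_cases p2 : p = 2
  · subst p2
    obtain ⟨g, hg⟩ := isConj_iff.1 (h.one_class z t (fun e => by simp [e] at hz)
      (by rw [← sq, ← hz, pow_orderOf_eq_one]) h.t1 h.t2)
    exact ⟨g, hg ▸ h.tK⟩
  obtain ⟨x, hx⟩ := exists_prime_orderOf_dvd_card' p hd
  rw [← orderOf_coe] at hx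
  obtain ⟨Q, hQ⟩ := (IsPGroup.of_card (p := p) (n := 1) (G := zpowers (x : G))
    (by rw [Nat.card_zpowers, hx, pow_one])).exists_le_sylow
  have hle : (Q : Subgroup G) ≤ K := by
    by_contra hn
    refine (PGrp.lt_inf_normalizer Q.2 (inf_lt_left.2 hn)).not_ge fun g hg => ⟨hg.1, ?_⟩
    by_contra hK
    have h1 := h.mul_self_of_not_mem (h.ti x x.2 (fun e => hp.one_lt.ne (by simpa [e] using hx)) g
      ((mem_normalizer_iff.1 hg.2 x).1 ⟨hQ (mem_zpowers _), x.2⟩).2) hK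
    obtain ⟨k, hk⟩ := Q.2 ⟨g, hg.1⟩
    have h2 := orderOf_dvd_of_pow_eq_one (congrArg Subtype.val hk : g ^ p ^ k = 1)
    rw [orderOf_eq_prime ((sq g).trans h1) (fun e => hK (e ▸ one_mem _))] at h2
    exact p2 ((Nat.prime_dvd_prime_iff_eq Nat.prime_two hp).1 (Nat.prime_two.dvd_of_dvd_pow h2)).symm
  obtain ⟨g, hg⟩ := Cls.exists_conj_mem_sylow Q (x := z) ⟨1, by rw [hz, pow_one]⟩
  exact ⟨g⁻¹, by simpa using hle hg⟩

theorem coprime_cent {y : G} (hy : ∀ g : G, g * y * g⁻¹ ∉ K) :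
    (Nat.card (centralizer ({y} : Set G))).Coprime (Nat.card K) := by
  refine Nat.coprime_of_dvd fun p hp h1 h2 => ?_
  have := Fact.mk hp
  obtain ⟨z, hz⟩ := exists_prime_orderOf_dvd_card' p h1
  rw [← orderOf_coe] at hz
  obtain ⟨c, hc⟩ := h.exists_conj_mem hp h2 hz
  obtain ⟨g, hg⟩ := h.conj_mem_of_comm (fun e => hp.one_lt.ne (by simpa [e] using hz)) hc
    (Cls.mem_centralizer_single.1 z.2).symm
  exact hy g hg

theorem coprime_cent' {y : G} (hy : ∀ g : G, g * y * g⁻¹ ∉ K) :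
    (Nat.card (centralizer ({y} : Set G))).Coprime (2 * Nat.card K) :=
  Nat.Coprime.mul_right ((h.coprime_cent hy).coprime_dvd_right h.two_dvd) (h.coprime_cent hy)

end Hyp

end Cfsg.Agent.ODD
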