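import Mathlib

/-!
The functional equation for the involution of a Zassenhaus group whose two point stabilizer is the group
of squares of a finite field of odd order.
-/

set_option autoImplicit false

namespace Cfsg.Agent.ODD

open Polynomial

variable {F : Type*} [Field F] [Fintype F]

theorem exists_sq_mul (hF : ringChar F ≠ 2) {n c : F} (hn : ¬ IsSquare n) (hc : ¬ IsSquare c) :
    ∃ d, d ≠ 0 ∧ c = d ^ 2 * n := by
  have n0 : n ≠ 0 := by rintro rfl; exact hn IsSquare.zero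
  have c0 : c ≠ 0 := by rintro rfl; exact hc IsSquare.zero
  have h1 := (FiniteField.pow_dichotomy hF n0).resolve_left
    (mt (FiniteField.isSquare_iff hF n0).2 hn)
  have h2 := (FiniteField.pow_dichotomy hF c0).resolve_left
    (mt (FiniteField.isSquare_iff hF c0).2 hc)
  obtain ⟨d, hd⟩ := (FiniteField.isSquare_iff hF (div_ne_zero c0 n0)).2
    (by rw [div_pow, h1, h2, div_self (neg_ne_zero.2 one_ne_zero)])
  refine ⟨d, ?_, by rw [sq, ← hd, div_mul_cancel₀ _ n0]⟩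
  rintro rfl
  exact div_ne_zero c0 n0 (hd.trans (mul_zero _))

omit [Fintype F] in
theorem exists_sq_of_isSquare {c : F} (c0 : c ≠ 0) (hc : IsSquare c) : ∃ d, d ≠ 0 ∧ c = d ^ 2 := by
  obtain ⟨d, rfl⟩ := hc
  exact ⟨d, fun h => c0 (by rw [h, mul_zero]), (sq d).symm⟩

theorem exists_sq_add_sq (hF : ringChar F ≠ 2) (n : F) : ∃ x y : F, x ^ 2 + y ^ 2 = n := by
  obtain ⟨a, b, hab⟩ := FiniteField.exists_root_sum_quadratic (f := X ^ 2) (g := X ^ 2 - C n)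
    (degree_X_pow 2) (degree_X_pow_sub_C (by decide) _) (FiniteField.odd_card_of_char_ne_two hF)
  refine ⟨a, b, ?_⟩
  simp only [eval_pow, eval_X, eval_sub, eval_C] at hab
  linear_combination hab

theorem fun_eq (hF : ringChar F ≠ 2) (ω κ : F → F) (h0 : ∀ c, c ≠ 0 → ω c ≠ 0)
    (hκ : ∀ c, c ≠ 0 → ∃ d, d ≠ 0 ∧ κ c = d ^ 2)
    (h2 : ∀ c d, c ≠ 0 → d ≠ 0 → d ^ 2 * ω (d ^ 2 * c) = ω c)
    (h3 : ∀ c, c ≠ 0 → ω (-ω c) = -(κ c * ω (-c)))
    (h4 : ∀ c, c ≠ 0 → ω (ω c) = c)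
    (h5 : ∀ c d, c ≠ 0 → d ≠ 0 → c + d ≠ 0 → -ω (-c) + ω d ≠ 0 →
      κ c * ω (c + d) = κ c * ω c + ω (-ω (-c) + ω d)) :
    ∃ l, l ≠ 0 ∧ ∀ c, c ≠ 0 → c * ω c = -l ^ 2 := by
  have hσ : ∀ c d, c ≠ 0 → d ≠ 0 → d ^ 2 * c * ω (d ^ 2 * c) = c * ω c := fun c d hc hd => by
    rw [← h2 c d hc hd]; ring
  have hσ1 : ∀ c, c ≠ 0 → IsSquare c → c * ω c = ω 1 := fun c hc hs => by
    obtain ⟨d, hd, rfl⟩ := exists_sq_of_isSquare hc hs
    simpa using hσ 1 d one_ne_zero hd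
  by_cases hm : IsSquare (-1 : F)
  · obtain ⟨i, i0, hi⟩ := exists_sq_of_isSquare (neg_ne_zero.2 one_ne_zero) hm
    have hneg : ∀ c, c ≠ 0 → ω (-c) = -ω c := fun c hc => by
      have := h2 c i hc i0
      rw [← hi, neg_one_mul, neg_one_mul] at this
      rw [← this, neg_neg]
    have hκ' : ∀ c, c ≠ 0 → κ c * ω c = -c := fun c hc => by
      have := h3 c hc
      rw [hneg _ (h0 c hc), h4 c hc, hneg c hc] at this
      linear_combination -this
    obtain ⟨e, e0, he⟩ := hκ 1 one_ne_zero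
    have h1 : ω 1 = -e⁻¹ ^ 2 := by
      have := hκ' 1 one_ne_zero
      rw [he] at this
      field_simp
      linear_combination this
    refine ⟨e⁻¹, inv_ne_zero e0, fun c hc => ?_⟩
    rw [← h1]
    by_cases hs : IsSquare c
    · exact hσ1 c hc hs
    obtain ⟨x, y, rfl⟩ := exists_sq_add_sq hF c
    have x0 : x ≠ 0 := by rintro rfl; exact hs ⟨y, by ring⟩
    have y0 : y ≠ 0 := by rintro rfl; exact hs ⟨x, by ring⟩
    have x2 := pow_ne_zero 2 x0
    have y2 := pow_ne_zero 2 y0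
    have e1 := hσ1 _ x2 ⟨x, sq x⟩
    have e2 := hσ1 _ y2 ⟨y, sq y⟩
    have e3 : -ω (-x ^ 2) + ω (y ^ 2) = (i / (e * x * y)) ^ 2 * (x ^ 2 + y ^ 2) := by
      rw [hneg _ x2, neg_neg, div_pow, ← hi, eq_div_of_mul_eq x2 ((mul_comm _ _).trans e1),
        eq_div_of_mul_eq y2 ((mul_comm _ _).trans e2), h1]
      field_simp
      ring
    have i1 : i / (e * x * y) ≠ 0 := div_ne_zero i0 (mul_ne_zero (mul_ne_zero e0 x0) y0)
    have e4 := h5 _ _ x2 y2 hc (by rw [e3]; exact mul_ne_zero (pow_ne_zero 2 i1) hc)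
    have e5 := h2 _ _ hc i1
    rw [← e3] at e5
    have e6 := hκ' _ x2
    rw [div_pow, ← hi] at e5
    have e7 : ω (-ω (-x ^ 2) + ω (y ^ 2)) = -(e * x * y) ^ 2 * ω (x ^ 2 + y ^ 2) := by
      rw [← e5]; field_simp
    have e8 : κ (x ^ 2) = e ^ 2 * x ^ 4 := by
      rw [eq_div_of_mul_eq x2 ((mul_comm _ _).trans e1), h1] at e6
      field_simp at e6
      linear_combination -e6
    rw [e7, e6, e8] at e4
    rw [h1]
    field_simp
    have : x ^ 2 * (e ^ 2 * (x ^ 2 + y ^ 2) * ω (x ^ 2 + y ^ 2) + 1) = 0 := by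
      linear_combination e4
    linear_combination (mul_eq_zero.1 this).resolve_left x2
  · have h1 : ¬ IsSquare (ω 1) := fun hs => by
      obtain ⟨e, e0, he⟩ := exists_sq_of_isSquare (h0 1 one_ne_zero) hs
      obtain ⟨c, c0, hc, hc2⟩ : ∃ c : F, c ≠ 0 ∧ IsSquare c ∧ c ^ 2 = e ^ 2 := by
        by_cases hs : IsSquare e
        · exact ⟨e, e0, hs, rfl⟩
        · obtain ⟨d, -, hd⟩ := exists_sq_mul hF hm hs
          exact ⟨-e, neg_ne_zero.2 e0, ⟨d, by rw [hd]; ring⟩, neg_sq e⟩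
      have e1 : ω c = c := mul_left_cancel₀ c0 (by rw [hσ1 c c0 hc, he, ← hc2, sq])
      have e2 := h3 c c0
      rw [e1] at e2
      obtain ⟨d, -, hd⟩ := hκ c c0
      refine hm ⟨d, mul_right_cancel₀ (h0 _ (neg_ne_zero.2 c0)) ?_⟩
      rw [← sq, ← hd]
      linear_combination -e2
    obtain ⟨l, l0, hl⟩ := exists_sq_mul hF hm h1
    refine ⟨l, l0, fun c hc => ?_⟩
    rw [← mul_neg_one, ← hl]
    by_cases hs : IsSquare c
    · exact hσ1 c hc hs
    · obtain ⟨d, d0, rfl⟩ := exists_sq_mul hF h1 hs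
      rw [hσ _ _ (h0 1 one_ne_zero) d0, h4 1 one_ne_zero, mul_one]

end Cfsg.Agent.ODD
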