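import Mathlib
import Cfsg.Agent.Lib.Lin.SL2

/-!
The homomorphism `SL(2, F) → G` given by a frame (any characteristic).
-/

set_option autoImplicit false

namespace Cfsg.Agent.ODD

open Subgroup
open scoped MatrixGroups

variable {G : Type*} [Group G] {F : Type*} [Field F]

/-- generators and relations of `PSL(2, F)` inside `G` -/
structure Frame (w : G) (a h : F → G) : Prop where
  a_add : ∀ c d, a (c + d) = a c * a d
  h_mul : ∀ c d, c ≠ 0 → d ≠ 0 → h (c * d) = h c * h d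
  h_neg_one : h (-1) = 1
  h_a : ∀ c, c ≠ 0 → ∀ d, h c * a d = a (c ^ 2 * d) * h c
  w2 : w * w = 1
  h_w : ∀ c, c ≠ 0 → h c * w = w * h c⁻¹
  str : ∀ c, c ≠ 0 → w * a c * w = a (-c⁻¹) * w * h c * a (-c⁻¹)

open Classical in
/-- The element of `G` attached to the matrix with entries `α, β, γ, δ`. -/
noncomputable def fe (w : G) (a h : F → G) (α β γ δ : F) : G :=
  if γ = 0 then a (α * β) * h α else a (α / γ) * w * h γ * a (δ / γ)

variable {w : G} {a h : F → G}

theorem fe_zero (α β δ : F) : fe w a h α β 0 δ = a (α * β) * h α := if_pos rfl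

theorem fe_ne (α β δ : F) {γ : F} (h0 : γ ≠ 0) :
    fe w a h α β γ δ = a (α / γ) * w * h γ * a (δ / γ) := if_neg h0

namespace Frame

variable (fr : Frame w a h)
include fr

theorem a_zero : a 0 = 1 := by
  have := fr.a_add 0 0
  rw [add_zero] at this
  exact mul_eq_left.1 this.symm

theorem h_one : h 1 = 1 := by
  have := fr.h_mul 1 1 one_ne_zero one_ne_zero
  rw [mul_one] at this
  exact mul_eq_left.1 this.symm

theorem h_neg {c : F} (hc : c ≠ 0) : h (-c) = h c := by
  rw [← neg_one_mul, fr.h_mul _ _ (neg_ne_zero.2 one_ne_zero) hc, fr.h_neg_one, one_mul]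

theorem fe_u {α β γ δ : F} (hd : α * δ - β * γ = 1) (c : F) :
    fe w a h (α + c * γ) (β + c * δ) γ δ = a c * fe w a h α β γ δ := by
  by_cases h0 : γ = 0
  · subst h0
    rw [fe_zero, fe_zero, ← mul_assoc, ← fr.a_add, mul_zero, add_zero]
    congr 2
    linear_combination c * hd
  · rw [fe_ne _ _ _ h0, fe_ne _ _ _ h0, ← mul_assoc, ← mul_assoc, ← mul_assoc, ← fr.a_add]
    congr 4
    field_simp
    ring

theorem fe_d {α β γ δ : F} (hd : α * δ - β * γ = 1) {c : F} (hc : c ≠ 0) :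
    fe w a h (c * α) (c * β) (c⁻¹ * γ) (c⁻¹ * δ) = h c * fe w a h α β γ δ := by
  by_cases h0 : γ = 0
  · subst h0
    have : α ≠ 0 := by rintro rfl; simp at hd
    rw [mul_zero, fe_zero, fe_zero, ← mul_assoc (h _), fr.h_a c hc, mul_assoc (a _),
      ← fr.h_mul _ _ hc this]
    congr 2; ring
  · rw [fe_ne _ _ _ h0, fe_ne _ _ _ (mul_ne_zero (inv_ne_zero hc) h0), ← mul_assoc (h _),
      ← mul_assoc (h _), ← mul_assoc (h _), fr.h_a c hc, mul_assoc (a _) (h _) w,
      fr.h_w c hc, ← mul_assoc, mul_assoc _ (h _) (h _),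
      ← fr.h_mul _ _ (inv_ne_zero hc) h0]
    rw [show c * α / (c⁻¹ * γ) = c ^ 2 * (α / γ) by field_simp,
      show c⁻¹ * δ / (c⁻¹ * γ) = δ / γ by field_simp]

theorem fe_w {α β γ δ : F} (hd : α * δ - β * γ = 1) :
    fe w a h (-γ) (-δ) α β = w * fe w a h α β γ δ := by
  by_cases h0 : γ = 0
  · subst h0
    have h1 : α ≠ 0 := by rintro rfl; simp at hd
    rw [fe_zero, fe_ne _ _ _ h1, neg_zero, zero_div, fr.a_zero, one_mul, mul_assoc, fr.h_a _ h1]
    congr 3
    field_simp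
  by_cases h1 : α = 0
  · subst h1
    rw [fe_zero, fe_ne _ _ _ h0, zero_div, fr.a_zero, one_mul, ← mul_assoc, ← mul_assoc, fr.w2,
      one_mul, fr.h_a _ h0, fr.h_neg h0]
    congr 2
    field_simp
  have h3 : a (-(α / γ)⁻¹) * h γ = h γ * a (-(α * γ)⁻¹) := by
    rw [fr.h_a _ h0]
    congr 2
    field_simp
  rw [fe_ne _ _ _ h0, fe_ne _ _ _ h1, ← mul_assoc w, ← mul_assoc w, ← mul_assoc w,
    fr.str _ (div_ne_zero h1 h0), mul_assoc _ (a _) (h _), h3, ← mul_assoc,
    mul_assoc _ (h _) (h _), ← fr.h_mul _ _ (div_ne_zero h1 h0) h0,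
    mul_assoc _ (a _) (a _), ← fr.a_add, inv_div, neg_div, div_mul_cancel₀ _ h0]
  congr 2
  field_simp
  linear_combination -hd

theorem fe_mul {p q r s α β γ δ : F} (h' : p * s - q * r = 1) (hd : α * δ - β * γ = 1) :
    fe w a h (p * α + q * γ) (p * β + q * δ) (r * α + s * γ) (r * β + s * δ) =
      fe w a h p q r s * fe w a h α β γ δ := by
  by_cases h0 : r = 0
  · subst h0
    have h1 : p ≠ 0 := by rintro rfl; simp at h'
    obtain rfl : s = p⁻¹ := eq_inv_of_mul_eq_one_right (by linear_combination h')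
    rw [fe_zero, mul_assoc, ← fr.fe_d hd h1, ← fr.fe_u (by field_simp; linear_combination hd)]
    congr 1
    · field_simp
    · field_simp
    · ring
    · ring
  · rw [fe_ne _ _ _ h0, mul_assoc, ← fr.fe_u hd, mul_assoc,
      ← fr.fe_d (by linear_combination hd) h0, mul_assoc,
      ← fr.fe_w (by field_simp; linear_combination r * hd),
      ← fr.fe_u (by field_simp; linear_combination r * hd)]
    congr 1
    · field_simp
      linear_combination -γ * h'
    · field_simp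
      linear_combination -δ * h'
    · field_simp
    · field_simp

/-- The homomorphism `SL(2, F) → G`. -/
noncomputable def phi : SL(2, F) →* G :=
  MonoidHom.mk' (fun g => fe w a h (g.1 0 0) (g.1 0 1) (g.1 1 0) (g.1 1 1)) fun x g => by
    have hx := x.det_coe
    have hg := g.det_coe
    rw [Matrix.det_fin_two] at hx hg
    simp only [Matrix.SpecialLinearGroup.coe_mul, Matrix.mul_apply, Fin.sum_univ_two]
    exact fr.fe_mul hx hg

theorem phi_apply (g : SL(2, F)) :
    fr.phi g = fe w a h (g.1 0 0) (g.1 0 1) (g.1 1 0) (g.1 1 1) := rfl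

theorem phi_mk {α β γ δ : F} (hd : Matrix.det !![α, β; γ, δ] = 1) :
    fr.phi ⟨!![α, β; γ, δ], hd⟩ = fe w a h α β γ δ := rfl

theorem a_mem_range (c : F) : a c ∈ fr.phi.range :=
  ⟨⟨!![1, c; 0, 1], by simp⟩, (fr.phi_mk _).trans (by simp [fe_zero, fr.h_one])⟩

theorem w_mem_range : w ∈ fr.phi.range :=
  ⟨⟨!![0, -1; 1, 0], by simp⟩, (fr.phi_mk _).trans (by
    simp [fe_ne _ _ _ one_ne_zero, fr.h_one, fr.a_zero])⟩

theorem h_mem_range {c : F} (hc : c ≠ 0) : h c ∈ fr.phi.range :=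
  ⟨⟨!![c, 0; 0, c⁻¹], by simp [hc]⟩, (fr.phi_mk _).trans (by simp [fe_zero, fr.a_zero])⟩

theorem ker_phi (ha : ∀ c, a c = 1 → c = 0) {B : Subgroup G} (haB : ∀ c, a c ∈ B)
    (hhB : ∀ c, c ≠ 0 → h c ∈ B) (hw : w ∉ B) : fr.phi.ker = center SL(2, F) := by
  have ainj : ∀ c d, a c = a d → c = d := fun c d e => by
    have := fr.a_add (c - d) d
    rw [sub_add_cancel, e] at this
    exact sub_eq_zero.1 (ha _ (mul_eq_right.1 this.symm))
  ext g
  have hd := g.det_coe
  rw [Matrix.det_fin_two] at hd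
  rw [MonoidHom.mem_ker, Lin.SL2.mem_center_iff_scalar, phi_apply]
  constructor
  · intro hg
    by_cases h0 : g.1 1 0 = 0
    · rw [h0, fe_zero] at hg
      rw [h0] at hd
      have h1 : g.1 0 0 ≠ 0 := fun e => by simp [e] at hd
      have h2 : g.1 0 0 ^ 2 = 1 := by
        have e := fr.h_a _ h1 1
        rw [eq_inv_of_mul_eq_one_right hg, mul_one] at e
        have e' : a (g.1 0 0 * g.1 0 1) * a (g.1 0 0 ^ 2) = a 1 * a (g.1 0 0 * g.1 0 1) := by
          calc _ = a (g.1 0 0 * g.1 0 1) * (a (g.1 0 0 ^ 2) * (a (g.1 0 0 * g.1 0 1))⁻¹) *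
              a (g.1 0 0 * g.1 0 1) := by group
            _ = _ := by rw [← e]; group
        rw [← fr.a_add, ← fr.a_add] at e'
        linear_combination ainj _ _ e'
      have h3 : h (g.1 0 0) = 1 := by
        rcases mul_self_eq_one_iff.1 ((sq _).symm.trans h2) with e | e <;> rw [e]
        exacts [fr.h_one, fr.h_neg_one]
      rw [h3, mul_one] at hg
      have h4 := (mul_eq_zero.1 (ha _ hg)).resolve_left h1
      refine ⟨g.1 0 0, ?_⟩
      have h5 : g.1 1 1 = g.1 0 0 := by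
        rw [h4] at hd
        linear_combination g.1 0 0 * hd - g.1 1 1 * h2
      ext i j
      fin_cases i <;> fin_cases j <;> simp [h0, h4, h5]
    · rw [fe_ne _ _ _ h0] at hg
      refine (hw ?_).elim
      have : w = (a (g.1 0 0 / g.1 1 0))⁻¹ * (h (g.1 1 0) * a (g.1 1 1 / g.1 1 0))⁻¹ := by
        calc w = (a (g.1 0 0 / g.1 1 0))⁻¹ * (a (g.1 0 0 / g.1 1 0) * w * h (g.1 1 0) *
              a (g.1 1 1 / g.1 1 0)) * (h (g.1 1 0) * a (g.1 1 1 / g.1 1 0))⁻¹ := by group
          _ = _ := by rw [hg, mul_one]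
      rw [this]
      exact mul_mem (inv_mem (haB _)) (inv_mem (mul_mem (hhB _ h0) (haB _)))
  · rintro ⟨c, hc⟩
    rw [← hc] at hd ⊢
    simp only [Matrix.scalar_apply, Matrix.diagonal_apply_eq, ne_eq, zero_ne_one, not_false_eq_true,
      Matrix.diagonal_apply_ne, one_ne_zero, mul_zero, sub_zero] at hd ⊢
    rw [fe_zero, mul_zero, fr.a_zero, one_mul]
    rcases mul_self_eq_one_iff.1 hd with e | e <;> rw [e]
    exacts [fr.h_one, fr.h_neg_one]

theorem nonempty_equiv (ha : ∀ c, a c = 1 → c = 0) {B : Subgroup G} (haB : ∀ c, a c ∈ B)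
    (hhB : ∀ c, c ≠ 0 → h c ∈ B) (hw : w ∉ B) (hs : fr.phi.range = ⊤) :
    Nonempty (G ≃* Matrix.ProjectiveSpecialLinearGroup (Fin 2) F) :=
  ⟨(QuotientGroup.quotientKerEquivOfSurjective fr.phi (MonoidHom.range_eq_top.1 hs)).symm.trans
    (QuotientGroup.quotientMulEquivOfEq (fr.ker_phi ha haB hhB hw))⟩

end Frame

end Cfsg.Agent.ODD
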