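import Mathlib
import Cfsg.Agent.Lib.ODD.Hom
import Cfsg.Agent.Lib.ODD.FunEq
import Cfsg.Agent.Lib.OO.Pf.PF9_B

/-!
Zassenhaus groups of degree `f + 1` and order `(f + 1) f (f - 1) / 2` with abelian regular normal
subgroup in the point stabilizer and inverted two point stabilizer are `PSL(2, f)`.
-/

set_option autoImplicit false

namespace Cfsg.Agent.ODD

open Subgroup

variable {G : Type*} [Group G]

/-- The data of the Zassenhaus group -/
structure Zas (P T : Subgroup G) (w : G) (m : ℕ) : Prop where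
  ab : ∀ x ∈ P, ∀ y ∈ P, x * y = y * x
  cardP : Nat.card P = 2 * m + 1
  cardT : Nat.card T = m
  m_pos : 0 < m
  T_le : T ≤ normalizer (P : Set G)
  fpf : ∀ τ ∈ T, ∀ x ∈ P, τ * x = x * τ → τ = 1 ∨ x = 1
  w2 : w * w = 1
  w_not : w ∉ normalizer (P : Set G)
  w_inv : ∀ τ ∈ T, τ * w = w * τ⁻¹
  decomp : ∀ b ∈ normalizer (P : Set G), ∃ x ∈ P, ∃ τ ∈ T, b = x * τ
  bruhat : ∀ g, g ∉ normalizer (P : Set G) → ∃ x ∈ P, ∃ τ ∈ T, ∃ y ∈ P, g = x * w * τ * y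
  uniq : ∀ x ∈ P, w * x * w ∈ normalizer (P : Set G) → x = 1

/-- coordinates -/
structure Pre (P T : Subgroup G) {F : Type*} [Field F] (a : F → G) (κ : G → F) : Prop where
  a_add : ∀ c d, a (c + d) = a c * a d
  a_inj : ∀ c, a c = 1 → c = 0
  a_mem : ∀ c, a c ∈ P
  a_surj : ∀ x ∈ P, ∃ c, a c = x
  κ_a : ∀ τ ∈ T, ∀ c, τ * a c = a (κ τ * c) * τ
  κ_sq : ∀ τ ∈ T, ∃ d, d ≠ 0 ∧ κ τ = d ^ 2
  κ_surj : ∀ d, d ≠ 0 → ∃ τ ∈ T, κ τ = d ^ 2

namespace Pre

variable {P T : Subgroup G} {F : Type*} [Field F] {a : F → G} {κ : G → F} (pr : Pre P T a κ)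
include pr

theorem a_zero : a 0 = 1 := by
  have := pr.a_add 0 0
  rw [add_zero] at this
  exact mul_eq_left.1 this.symm

theorem a_neg (c : F) : a (-c) = (a c)⁻¹ :=
  eq_inv_of_mul_eq_one_left (by rw [← pr.a_add, neg_add_cancel, pr.a_zero])

theorem a_inj' {c d : F} (e : a c = a d) : c = d :=
  sub_eq_zero.1 (pr.a_inj _ (by rw [sub_eq_add_neg, pr.a_add, pr.a_neg, e, mul_inv_cancel]))

theorem κ_mul {σ τ : G} (hσ : σ ∈ T) (hτ : τ ∈ T) : κ (σ * τ) = κ σ * κ τ := by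
  have := pr.κ_a _ (mul_mem hσ hτ) 1
  rw [mul_assoc σ, pr.κ_a _ hτ, ← mul_assoc σ, pr.κ_a _ hσ, mul_assoc, mul_left_inj] at this
  simpa using (pr.a_inj' this).symm

theorem κ_one : κ 1 = 1 := by
  have := pr.κ_a _ (one_mem _) 1
  rw [one_mul, mul_one, mul_one] at this
  exact (pr.a_inj' this).symm

theorem κ_ne {τ : G} (hτ : τ ∈ T) : κ τ ≠ 0 := by
  obtain ⟨d, hd, e⟩ := pr.κ_sq τ hτ
  rw [e]; exact pow_ne_zero 2 hd

theorem κ_inv {τ : G} (hτ : τ ∈ T) : κ τ⁻¹ = (κ τ)⁻¹ :=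
  eq_inv_of_mul_eq_one_left (by rw [← pr.κ_mul (inv_mem hτ) hτ, inv_mul_cancel, pr.κ_one])

theorem scale {l : F} (l0 : l ≠ 0) : Pre P T (fun c => a (l * c)) κ where
  a_add c d := by rw [mul_add, pr.a_add]
  a_inj c h := (mul_eq_zero.1 (pr.a_inj _ h)).resolve_left l0
  a_mem c := pr.a_mem _
  a_surj x hx := by
    obtain ⟨c, rfl⟩ := pr.a_surj x hx
    exact ⟨l⁻¹ * c, by rw [mul_inv_cancel_left₀ l0]⟩
  κ_a τ hτ c := by rw [pr.κ_a τ hτ, mul_left_comm]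
  κ_sq := pr.κ_sq
  κ_surj := pr.κ_surj

variable {w : G} {m : ℕ} (hZ : Zas P T w m)
include hZ

theorem κ_inj {σ τ : G} (hσ : σ ∈ T) (hτ : τ ∈ T) (e : κ σ = κ τ) : σ = τ := by
  have h := mul_mem (inv_mem hτ) hσ
  have := pr.κ_a _ h 1
  rw [pr.κ_mul (inv_mem hτ) hσ, pr.κ_inv hτ, e, inv_mul_cancel₀ (pr.κ_ne hτ), one_mul] at this
  rcases hZ.fpf _ h _ (pr.a_mem 1) this with h | h
  · exact (inv_mul_eq_one.1 h).symm
  · exact (one_ne_zero (pr.a_inj _ h)).elim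

theorem eq_one_of_mem {τ : G} (hτ : τ ∈ T) (h : τ ∈ P) : τ = 1 :=
  (hZ.fpf _ hτ _ (pr.a_mem 1) (hZ.ab _ h _ (pr.a_mem 1))).resolve_right
    fun h => one_ne_zero (pr.a_inj _ h)

omit hZ in
theorem a_norm (c : F) : a c ∈ normalizer (P : Set G) := le_normalizer (pr.a_mem c)

theorem unique {σ τ : G} (hσ : σ ∈ T) (hτ : τ ∈ T) {c d c' d' : F}
    (e : a c * w * σ * a d = a c' * w * τ * a d') : c = c' ∧ σ = τ ∧ d = d' := by
  have h1 : c = c' := by
    refine pr.a_inj' (inv_mul_eq_one.1 (hZ.uniq _ (mul_mem (inv_mem (pr.a_mem c)) (pr.a_mem c')) ?_))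
    have : w * ((a c)⁻¹ * a c') * w = σ * a d * (τ * a d')⁻¹ := by
      calc _ = w * (a c)⁻¹ * (a c' * w * τ * a d') * (τ * a d')⁻¹ := by group
        _ = w * w * σ * a d * (τ * a d')⁻¹ := by rw [← e]; group
        _ = _ := by rw [hZ.w2, one_mul]
    rw [this]
    exact mul_mem (mul_mem (hZ.T_le hσ) (pr.a_norm _))
      (inv_mem (mul_mem (hZ.T_le hτ) (pr.a_norm _)))
  subst h1
  rw [mul_assoc, mul_assoc _ τ, mul_right_inj] at e
  have h2 : σ = τ := by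
    refine (inv_mul_eq_one.1 (pr.eq_one_of_mem hZ (mul_mem (inv_mem hτ) hσ) ?_)).symm
    have : τ⁻¹ * σ = a d' * (a d)⁻¹ := by
      calc _ = τ⁻¹ * (σ * a d) * (a d)⁻¹ := by group
        _ = _ := by rw [e]; group
    rw [this]
    exact mul_mem (pr.a_mem _) (inv_mem (pr.a_mem _))
  subst h2
  exact ⟨rfl, rfl, pr.a_inj' (mul_left_cancel e)⟩

theorem exists_str {c : F} (hc : c ≠ 0) : ∃ x, ∃ τ ∈ T, ∃ y, w * a c * w = a x * w * τ * a y := by
  obtain ⟨x, hx, τ, hτ, y, hy, e⟩ := hZ.bruhat (w * a c * w)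
    fun h => hc (pr.a_inj _ (hZ.uniq _ (pr.a_mem c) h))
  obtain ⟨x, rfl⟩ := pr.a_surj x hx
  obtain ⟨y, rfl⟩ := pr.a_surj y hy
  exact ⟨x, τ, hτ, y, e⟩

section
variable {c x y : F} {τ : G} (hτ : τ ∈ T) (e : w * a c * w = a x * w * τ * a y)
include hτ e

theorem str_neg : w * a (-c) * w = a (-y) * w * τ * a (-x) := by
  have hw := eq_inv_of_mul_eq_one_left hZ.w2
  calc w * a (-c) * w = (w * a c * w)⁻¹ := by rw [pr.a_neg, mul_inv_rev, mul_inv_rev, ← hw]; group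
    _ = (a y)⁻¹ * (τ⁻¹ * w) * (a x)⁻¹ := by
      rw [e, mul_inv_rev, mul_inv_rev, mul_inv_rev, ← hw]; group
    _ = _ := by rw [hZ.w_inv _ (inv_mem hτ), pr.a_neg, pr.a_neg]; group

omit hτ in
theorem str_conj {σ : G} (hσ : σ ∈ T) :
    w * a ((κ σ)⁻¹ * c) * w = a (κ σ * x) * w * (σ⁻¹ * τ * σ⁻¹) * a (κ σ * y) := by
  have h1 := pr.κ_a _ (inv_mem hσ) c
  rw [pr.κ_inv hσ] at h1
  calc w * a ((κ σ)⁻¹ * c) * w = w * (a ((κ σ)⁻¹ * c) * σ⁻¹) * (σ * w) := by group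
    _ = w * σ⁻¹ * a c * w * σ⁻¹ := by rw [← h1, hZ.w_inv _ hσ]; group
    _ = σ * (w * a c * w) * σ⁻¹ := by rw [← hZ.w_inv _ hσ]; group
    _ = σ * a x * w * τ * σ⁻¹ * (σ * a y) * σ⁻¹ := by rw [e]; group
    _ = a (κ σ * x) * (σ * w) * τ * σ⁻¹ * a (κ σ * y) := by rw [pr.κ_a _ hσ, pr.κ_a _ hσ]; group
    _ = _ := by rw [hZ.w_inv _ hσ]; group

theorem str_add {d x' y' u v : F} {τ' ρ : G} (hτ' : τ' ∈ T)
    (e' : w * a d * w = a x' * w * τ' * a y') (e'' : w * a (y + x') * w = a u * w * ρ * a v) :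
    w * a (c + d) * w = a (x + (κ τ)⁻¹ * u) * w * (τ * ρ * τ') * a ((κ τ')⁻¹ * v + y') := by
  have h1 := pr.κ_a _ (inv_mem hτ) u
  rw [pr.κ_inv hτ] at h1
  have h2 := pr.κ_a _ hτ' ((κ τ')⁻¹ * v)
  rw [mul_inv_cancel_left₀ (pr.κ_ne hτ')] at h2
  have h3 := hZ.w_inv _ (inv_mem hτ)
  rw [inv_inv] at h3
  calc w * a (c + d) * w = w * a c * (w * w) * a d * w := by rw [pr.a_add, hZ.w2]; group
    _ = (w * a c * w) * (w * a d * w) := by group
    _ = a x * (w * τ) * (a y * a x') * w * τ' * a y' := by rw [e, e']; group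
    _ = a x * τ⁻¹ * (w * a (y + x') * w) * τ' * a y' := by rw [← h3, pr.a_add]; group
    _ = a x * (τ⁻¹ * a u) * w * ρ * (a v * τ') * a y' := by rw [e'']; group
    _ = a x * a ((κ τ)⁻¹ * u) * (τ⁻¹ * w) * ρ * τ' * (a ((κ τ')⁻¹ * v) * a y') := by
      rw [h1, ← h2]; group
    _ = _ := by rw [h3, pr.a_add, pr.a_add]; group

theorem str_swap : w * a (-x) * w = a (κ τ * y) * w * τ⁻¹ * a (-c) := by
  calc w * a (-x) * w = w * (a x)⁻¹ * (w * a c * w) * (w * a (-c)) := by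
        rw [pr.a_neg, pr.a_neg]
        calc _ = w * (a x)⁻¹ * (w * a c * (1 * (a c)⁻¹)) := by group
          _ = _ := by rw [← hZ.w2]; group
    _ = w * w * (τ * a y) * w * a (-c) := by rw [e]; group
    _ = _ := by
      rw [hZ.w2, one_mul, pr.κ_a _ hτ, mul_assoc _ τ, hZ.w_inv _ hτ]; group

theorem str_ne : x ≠ 0 := by
  rintro rfl
  refine hZ.w_not ?_
  rw [pr.a_zero, one_mul, mul_assoc, mul_assoc, mul_right_inj] at e
  have : w = (a c)⁻¹ * (τ * a y) := by rw [← e]; group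
  rw [this]
  exact mul_mem (inv_mem (pr.a_norm _)) (mul_mem (hZ.T_le hτ) (pr.a_norm _))

end

theorem exists_scale [Fintype F] (hF : ringChar F ≠ 2) : ∃ l : F, l ≠ 0 ∧ ∀ c, c ≠ 0 →
    ∃ τ ∈ T, ∃ y, w * a (l * c) * w = a (l * -c⁻¹) * w * τ * a y := by
  have h : ∀ c : F, ∃ x, ∃ τ ∈ T, ∃ y, c ≠ 0 → w * a c * w = a x * w * τ * a y := fun c => by
    by_cases hc : c = 0
    · exact ⟨0, 1, one_mem _, 0, fun h => (h hc).elim⟩
    · obtain ⟨x, τ, hτ, y, e⟩ := pr.exists_str hZ hc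
      exact ⟨x, τ, hτ, y, fun _ => e⟩
  choose ω τ hτ ω' e using h
  have h0 : ∀ c, c ≠ 0 → ω c ≠ 0 := fun c hc => pr.str_ne hZ (hτ c) (e c hc)
  have h1 : ∀ c, c ≠ 0 → ω' c = -ω (-c) := fun c hc => by
    rw [(pr.unique hZ (hτ _) (hτ c) ((e _ (neg_ne_zero.2 hc)).symm.trans
      (pr.str_neg hZ (hτ c) (e c hc)))).1, neg_neg]
  have h3 := fun c (hc : c ≠ 0) => pr.unique hZ (hτ _) (inv_mem (hτ c))
    ((e _ (neg_ne_zero.2 (h0 c hc))).symm.trans (pr.str_swap hZ (hτ c) (e c hc)))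
  obtain ⟨l, l0, hl⟩ := fun_eq hF ω (fun c => κ (τ c)) h0 (fun c _ => pr.κ_sq _ (hτ c))
    (fun c d hc hd => by
      obtain ⟨σ, hσ, hd'⟩ := pr.κ_surj d hd
      have hc' := mul_ne_zero (pow_ne_zero 2 hd) hc
      have := pr.str_conj hZ (e _ hc') hσ
      rw [hd', inv_mul_cancel_left₀ (pow_ne_zero 2 hd)] at this
      exact (pr.unique hZ (mul_mem (mul_mem (inv_mem hσ) (hτ _)) (inv_mem hσ)) (hτ c)
        (this.symm.trans (e c hc))).1)
    (fun c hc => by rw [(h3 c hc).1, h1 c hc, mul_neg])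
    (fun c hc => by
      have := (h3 c hc).2.2
      rwa [h1 _ (neg_ne_zero.2 (h0 c hc)), neg_neg, neg_inj] at this)
    (fun c d hc hd hcd hu => by
      rw [← h1 c hc] at hu ⊢
      have := pr.str_add hZ (hτ c) (e c hc) (hτ d) (e d hd) (e _ hu)
      rw [(pr.unique hZ (hτ _) (mul_mem (mul_mem (hτ _) (hτ _)) (hτ _))
        ((e _ hcd).symm.trans this)).1, mul_add, mul_inv_cancel_left₀ (pr.κ_ne (hτ c))])
  refine ⟨l, l0, fun c hc => ⟨τ (l * c), hτ _, ω' (l * c), ?_⟩⟩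
  rw [e _ (mul_ne_zero l0 hc)]
  congr 4
  have := hl _ (mul_ne_zero l0 hc)
  field_simp
  field_simp at this
  linear_combination this

theorem nonempty_equiv_of_str
    (e : ∀ c, c ≠ 0 → ∃ τ ∈ T, ∃ y, w * a c * w = a (-c⁻¹) * w * τ * a y) :
    Nonempty (G ≃* Matrix.ProjectiveSpecialLinearGroup (Fin 2) F) := by
  have hh : ∀ d : F, ∃ τ ∈ T, d ≠ 0 → κ τ = d ^ 2 := fun d => by
    by_cases hd : d = 0
    · exact ⟨1, one_mem _, fun h => (h hd).elim⟩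
    · obtain ⟨τ, hτ, e⟩ := pr.κ_surj d hd
      exact ⟨τ, hτ, fun _ => e⟩
  choose h hT hκ using hh
  have fr : Frame w a h :=
    { a_add := pr.a_add
      h_mul := fun c d hc hd => pr.κ_inj hZ (hT _) (mul_mem (hT _) (hT _)) (by
        rw [pr.κ_mul (hT _) (hT _), hκ _ hc, hκ _ hd, hκ _ (mul_ne_zero hc hd), mul_pow])
      h_neg_one := pr.κ_inj hZ (hT _) (one_mem _) (by
        rw [hκ _ (neg_ne_zero.2 one_ne_zero), pr.κ_one, neg_one_sq])
      h_a := fun c hc d => by rw [pr.κ_a _ (hT c), hκ c hc]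
      w2 := hZ.w2
      h_w := fun c hc => by
        rw [hZ.w_inv _ (hT c)]
        congr 1
        exact pr.κ_inj hZ (inv_mem (hT _)) (hT _) (by
          rw [pr.κ_inv (hT _), hκ _ hc, hκ _ (inv_ne_zero hc), inv_pow])
      str := fun c hc => by
        obtain ⟨τ, hτ, y, e1⟩ := e c hc
        obtain ⟨σ, hσ, z, e2⟩ := e _ (neg_ne_zero.2 hc)
        obtain ⟨ρ, hρ, u, e3⟩ := e _ (inv_ne_zero hc)
        have h1 := (pr.unique hZ hσ hτ (e2.symm.trans (pr.str_neg hZ hτ e1))).1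
        have h2 := pr.str_swap hZ hτ e1
        rw [neg_neg] at h2
        have h3 := (pr.unique hZ hρ (inv_mem hτ) (e3.symm.trans h2)).1
        obtain rfl : y = -c⁻¹ := by rw [← neg_neg y, ← h1, inv_neg, neg_neg]
        rw [e1, pr.κ_inj hZ hτ (hT c)]
        rw [hκ c hc]
        field_simp at h3
        linear_combination h3 }
  have hP : P ≤ fr.phi.range := fun x hx => by
    obtain ⟨c, rfl⟩ := pr.a_surj x hx
    exact fr.a_mem_range c
  have hT' : T ≤ fr.phi.range := fun τ hτ => by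
    obtain ⟨d, hd, e⟩ := pr.κ_sq τ hτ
    rw [pr.κ_inj hZ hτ (hT d) (e.trans (hκ d hd).symm)]
    exact fr.h_mem_range hd
  refine fr.nonempty_equiv pr.a_inj pr.a_norm (fun c _ => hZ.T_le (hT c)) hZ.w_not
    (eq_top_iff.2 fun g _ => ?_)
  by_cases hg : g ∈ normalizer (P : Set G)
  · obtain ⟨x, hx, τ, hτ, rfl⟩ := hZ.decomp g hg
    exact mul_mem (hP hx) (hT' hτ)
  · obtain ⟨x, hx, τ, hτ, y, hy, rfl⟩ := hZ.bruhat g hg
    exact mul_mem (mul_mem (mul_mem (hP hx) fr.w_mem_range) (hT' hτ)) (hP hy)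

theorem nonempty_equiv [Fintype F] (hF : ringChar F ≠ 2) :
    Nonempty (G ≃* Matrix.ProjectiveSpecialLinearGroup (Fin 2) F) := by
  obtain ⟨l, l0, h⟩ := pr.exists_scale hZ hF
  refine (pr.scale l0).nonempty_equiv_of_str hZ fun c hc => ?_
  obtain ⟨τ, hτ, y, e⟩ := h c hc
  exact ⟨τ, hτ, l⁻¹ * y, by rw [mul_inv_cancel_left₀ l0, e]⟩

end Pre

namespace Zas

variable [Finite G] {P T : Subgroup G} {w : G} {m : ℕ} (hZ : Zas P T w m)
include hZ

omit [Finite G] in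
theorem T_comm {σ τ : G} (hσ : σ ∈ T) (hτ : τ ∈ T) : σ * τ = τ * σ := by
  have h := hZ.w_inv _ (mul_mem hσ hτ)
  rw [mul_assoc, hZ.w_inv _ hτ, ← mul_assoc, hZ.w_inv _ hσ, mul_assoc, mul_right_inj,
    ← mul_inv_rev, inv_inj] at h
  exact h.symm

theorem irred {X : Subgroup G} (hX : X ≤ P) (hT : T ≤ normalizer (X : Set G)) : X = ⊥ ∨ X = P := by
  refine or_iff_not_imp_left.2 fun h => ?_
  obtain ⟨x, hx, x1⟩ := (bot_or_exists_ne_one X).resolve_left h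
  let f : Option T → X := fun o => match o with
    | none => 1
    | some τ => ⟨τ * x * (τ : G)⁻¹, (mem_normalizer_iff.1 (hT τ.2) x).1 hx⟩
  have hf : Function.Injective f := by
    rintro (_ | σ) (_ | τ) e
    · rfl
    · exact (x1 (conj_eq_one_iff.1 (congrArg Subtype.val e).symm)).elim
    · exact (x1 (conj_eq_one_iff.1 (congrArg Subtype.val e))).elim
    · have e : (σ : G) * x * (σ : G)⁻¹ = τ * x * (τ : G)⁻¹ := congrArg Subtype.val e
      have := (hZ.fpf _ (mul_mem (inv_mem τ.2) σ.2) x (hX hx) (by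
        calc (τ : G)⁻¹ * σ * x = (τ : G)⁻¹ * (σ * x * (σ : G)⁻¹) * σ := by group
          _ = _ := by rw [e]; group)).resolve_right x1
      exact congrArg some (Subtype.ext (inv_mul_eq_one.1 this).symm)
  have h1 := Nat.card_le_card_of_injective f hf
  rw [Finite.card_option, hZ.cardT] at h1
  obtain ⟨c, hc⟩ := card_dvd_of_le hX
  refine eq_of_le_of_card_ge hX ?_
  rw [hZ.cardP] at hc ⊢
  rcases c with _ | _ | c
  · omega
  · omega
  · nlinarith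

theorem exists_pre : ∃ (F : Type) (_ : Field F) (_ : Fintype F) (a : F → G) (κ : G → F),
    Fintype.card F = 2 * m + 1 ∧ Pre P T a κ := by
  classical
  obtain ⟨v, hv, v1⟩ := (bot_or_exists_ne_one P).resolve_left fun h => by
    have := hZ.cardP
    rw [h, card_bot] at this
    have := hZ.m_pos
    omega
  obtain ⟨F, _, φ, hc, hadd, hsurj, h0, h1, hmul⟩ := OO.Pf.P9.exists_field_grp (V := P) (B := T)
    ⟨⟨fun x y => Subtype.ext (hZ.ab _ x.2 _ y.2)⟩⟩ hZ.T_le (by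
      refine (commutator_le.2 fun σ hσ τ hτ => ?_)
      rw [commutatorElement_def, hZ.T_comm hσ hτ]
      simp) (fun X hX hT => hZ.irred hX hT) hv v1
  rw [hZ.cardP] at hc
  have : Finite F := Nat.finite_of_card_ne_zero (by omega)
  have := Fintype.ofFinite F
  rw [Nat.card_eq_fintype_card] at hc
  have hF : ringChar F ≠ 2 := fun h => by
    have := FiniteField.even_card_iff_char_two.1 h
    omega
  choose a ha e using hsurj
  have φinj : ∀ x ∈ P, ∀ y ∈ P, φ x = φ y → x = y := fun x hx y hy h => by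
    have := hadd _ (mul_mem hx (inv_mem hy)) _ hy
    rw [inv_mul_cancel_right, h, right_eq_add] at this
    exact mul_inv_eq_one.1 ((h0 _ (mul_mem hx (inv_mem hy))).1 this)
  have cj : ∀ τ ∈ T, ∀ x ∈ P, τ * x * τ⁻¹ ∈ P := fun τ hτ x hx =>
    (mem_normalizer_iff.1 (hZ.T_le hτ) x).1 hx
  have κa : ∀ τ ∈ T, ∀ c, τ * a c = a (φ (τ * v * τ⁻¹) * c) * τ := fun τ hτ c => by
    rw [← mul_inv_eq_iff_eq_mul]
    exact φinj _ (cj τ hτ _ (ha c)) _ (ha _) (by rw [hmul τ hτ _ (ha c), e, e])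
  have κmul : ∀ σ ∈ T, ∀ τ ∈ T, φ (σ * τ * v * (σ * τ)⁻¹) = φ (σ * v * σ⁻¹) * φ (τ * v * τ⁻¹) :=
    fun σ hσ τ hτ => by
      rw [← hmul σ hσ _ (cj τ hτ v hv)]
      congr 1; group
  have κpow : ∀ τ ∈ T, φ (τ * v * τ⁻¹) ^ m = 1 := fun τ hτ => by
    have : ∀ n : ℕ, φ (τ ^ n * v * (τ ^ n)⁻¹) = φ (τ * v * τ⁻¹) ^ n := fun n => by
      induction n with
      | zero => simpa using h1
      | succ n ih => rw [pow_succ, κmul _ (pow_mem hτ n) _ hτ, ih, pow_succ]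
    rw [← this, show τ ^ m = 1 from congrArg Subtype.val
      (hZ.cardT ▸ pow_card_eq_one' (x := (⟨τ, hτ⟩ : T)))]
    simpa using h1
  have hm : Fintype.card F / 2 = m := by omega
  refine ⟨F, inferInstance, inferInstance, a, fun τ => φ (τ * v * τ⁻¹), hc,
    fun c d => φinj _ (ha _) _ (mul_mem (ha _) (ha _)) (by rw [hadd _ (ha _) _ (ha _), e, e, e]),
    fun c h => by rw [← e c, h, (h0 1 (one_mem _)).2 rfl], ha,
    fun x hx => ⟨φ x, φinj _ (ha _) _ hx (e _)⟩, κa, fun τ hτ => ?_, fun d hd => ?_⟩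
  · have h2 : φ (τ * v * τ⁻¹) ≠ 0 := fun h =>
      v1 (conj_eq_one_iff.1 ((h0 _ (cj τ hτ v hv)).1 h))
    exact exists_sq_of_isSquare h2 ((FiniteField.isSquare_iff hF h2).2 (hm ▸ κpow τ hτ))
  · let f : T → Polynomial.nthRootsFinset m (1 : F) := fun τ =>
      ⟨φ (τ * v * (τ : G)⁻¹), (Polynomial.mem_nthRootsFinset hZ.m_pos _).2 (κpow _ τ.2)⟩
    have hf : Function.Injective f := fun σ τ h => by
      have e := φinj _ (cj _ σ.2 v hv) _ (cj _ τ.2 v hv) (congrArg Subtype.val h)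
      have := (hZ.fpf _ (mul_mem (inv_mem τ.2) σ.2) v hv (by
        calc (τ : G)⁻¹ * σ * v = (τ : G)⁻¹ * (σ * v * (σ : G)⁻¹) * σ := by group
          _ = _ := by rw [e]; group)).resolve_right v1
      exact Subtype.ext (inv_mul_eq_one.1 this).symm
    obtain ⟨τ, hτ⟩ := (hf.bijective_of_nat_card_le (by
      rw [hZ.cardT, Nat.card_eq_fintype_card, Fintype.card_coe]
      exact (Multiset.toFinset_card_le _).trans (Polynomial.card_nthRoots m 1))).2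
      ⟨d ^ 2, (Polynomial.mem_nthRootsFinset hZ.m_pos _).2 (by
        rw [← pow_mul, ← FiniteField.pow_card_sub_one_eq_one d hd, hc, Nat.add_sub_cancel])⟩
    exact ⟨τ, τ.2, congrArg Subtype.val hτ⟩

theorem main : ∃ (F : Type) (_ : Field F) (_ : Fintype F), Fintype.card F = 2 * m + 1 ∧
    Nonempty (G ≃* Matrix.ProjectiveSpecialLinearGroup (Fin 2) F) := by
  obtain ⟨F, _, _, a, κ, hc, pr⟩ := hZ.exists_pre
  refine ⟨F, inferInstance, inferInstance, hc, pr.nonempty_equiv hZ fun h => ?_⟩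
  have := FiniteField.even_card_iff_char_two.1 h
  omega

end Zas

end Cfsg.Agent.ODD
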