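import Mathlib
import Cfsg.Agent.Lib.ODD.Basic
import Cfsg.Agent.Lib.ODD.Abel
import Cfsg.Agent.Lib.ODD.Field
import Cfsg.Agent.Lib.BSW.Three
import Cfsg.Agent.Lib.BSW.SelfNorm

/-!
Construction of the Zassenhaus data.
-/

set_option autoImplicit false

namespace Cfsg.Agent.ODD

open Subgroup

universe u

variable {G : Type u} [Group G] [Finite G]

structure Data (P : Subgroup G) (m : ℕ) : Prop where
  m_pos : 0 < m
  card : Nat.card G = (2 * m + 1) * (m * (2 * m + 2))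
  cardP : Nat.card P = 2 * m + 1
  cc : ∀ x ∈ P, x ≠ 1 → ∀ g : G, g * x = x * g ↔ g ∈ P
  index_le : (normalizer (P : Set G)).index ≤ 2 * m + 2

theorem Unip.exists_data {m : ℕ} (h : Unip G m) : ∃ P : Subgroup G, Data P m := by
  obtain ⟨y, y1, hy, hab⟩ := h.exists_ab
  have hc : ∀ x ∈ centralizer ({y} : Set G), x ≠ 1 → ∀ g : G, g * x = x * g ↔
      g ∈ centralizer ({y} : Set G) := fun x hx x1 g => by
    rw [← Cls.mem_centralizer_single, eq_of_le_of_card_ge (H := centralizer {y}) (K := centralizer {x})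
      (fun z hz => Cls.mem_centralizer_single.2 (BSW.comm_of_mem hab hz hx))
      (by rw [(h.card_cent y1 hy).1, (h.card_cent x1 (h.pow_of_mem y1 hy hx)).1])]
  refine ⟨_, h.m_pos, h.card, (h.card_cent y1 hy).1, hc, ?_⟩
  have h1 := BSW.ncard_classSupp_of_cc (A := centralizer ({y} : Set G))
    (fun e => y1 (mem_bot.1 (e ▸ Cls.self_mem_centralizer_single y)))
    fun x hx x1 g hg => BSW.mem_norm_of_cent_eq hc hx x1 hg
  have h2 : OO.classSupp (OO.sharp (centralizer ({y} : Set G))) ⊤ ⊆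
      {y : G | y ≠ 1 ∧ y ^ (2 * m + 1) = 1} := by
    rintro _ ⟨x, hx, g, -, rfl⟩
    exact Unip.conj_subset hx.2 (h.pow_of_mem y1 hy hx.1) (isConj_iff.2 ⟨g, rfl⟩)
  have h3 := Set.ncard_le_ncard h2 (Set.toFinite _)
  rw [h1, h.ncard, (h.card_cent y1 hy).1, Nat.add_sub_cancel, ← mul_assoc] at h3
  exact le_of_mul_le_mul_left h3 (by have := h.m_pos; omega)

namespace Data

variable {P : Subgroup G} {m : ℕ} (h : Data P m)
include h

omit [Finite G] in
theorem exists_ne_one : ∃ x ∈ P, x ≠ 1 := (bot_or_exists_ne_one P).resolve_left fun e => by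
  have := h.cardP
  rw [e, card_bot] at this
  have := h.m_pos
  omega

omit [Finite G] in
theorem ab {x y : G} (hx : x ∈ P) (hy : y ∈ P) : x * y = y * x := by
  by_cases y1 : y = 1
  · simp [y1]
  · exact (h.cc y hy y1 x).2 hx

omit [Finite G] in
theorem eq_one_of_mul_self {x : G} (hx : x ∈ P) (x2 : x * x = 1) : x = 1 := by
  by_contra x1
  have := P.orderOf_dvd_natCard hx
  rw [orderOf_eq_prime ((sq x).trans x2) x1, h.cardP] at this
  omega

omit [Finite G] in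
theorem ti {x g : G} (hx : x ∈ P) (x1 : x ≠ 1) (hg : g * x * g⁻¹ ∈ normalizer (P : Set G)) :
    g ∈ normalizer (P : Set G) := by
  refine BSW.mem_norm_of_cent_eq h.cc hx x1 (BSW.mem_of_coprime_relIndex le_rfl hg ?_)
  have h1 := P.card_mul_index
  rw [h.card, h.cardP, mul_right_inj' (by omega)] at h1
  rw [show orderOf (g * x * g⁻¹) = orderOf x from (MulAut.conj g).orderOf_eq x]
  exact (Unip.coprime.coprime_dvd_left (h.cardP ▸ P.orderOf_dvd_natCard hx)).coprime_dvd_right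
    (h1 ▸ relIndex_dvd_index_of_le le_normalizer)

theorem inverts {u : G} (hu : u ∈ normalizer (P : Set G)) (u1 : u ≠ 1) (u2 : u * u = 1) {x : G}
    (hx : x ∈ P) : u * x * u⁻¹ = x⁻¹ :=
  Frob.conj_eq_inv_of_fpf u2 hu (fun k hk e => by_contra fun k1 =>
    u1 (h.eq_one_of_mul_self ((h.cc k hk k1 u).1 e) u2)) hx

theorem mul_mem_of_inv {u v : G} (hu : u ∈ normalizer (P : Set G)) (u1 : u ≠ 1) (u2 : u * u = 1)
    (hv : v ∈ normalizer (P : Set G)) (v1 : v ≠ 1) (v2 : v * v = 1) : u * v ∈ P := by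
  obtain ⟨x, hx, x1⟩ := h.exists_ne_one
  refine (h.cc x hx x1 _).1 (mul_inv_eq_iff_eq_mul.1 ?_)
  calc u * v * x * (u * v)⁻¹ = u * (v * x * v⁻¹) * u⁻¹ := by group
    _ = _ := by rw [h.inverts hv v1 v2 hx, h.inverts hu u1 u2 (inv_mem hx), inv_inv]

theorem exists_inv_not_mem (h0 : pPrimeCore 2 G = ⊥) {t : G} (t1 : t ≠ 1) (t2 : t * t = 1) :
    ∃ w : G, w * w = 1 ∧ w ∉ normalizer (P : Set G) := by
  by_contra hn
  push Not at hn
  obtain ⟨x, hx, x1⟩ := h.exists_ne_one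
  have : P.Normal := by
    rw [← normalizer_eq_top_iff, eq_top_iff]
    intro g _
    refine h.ti (mul_mem hx hx) (fun e => x1 (h.eq_one_of_mul_self hx e)) (le_normalizer ?_)
    have e : g * (x * x) * g⁻¹ = g * x * t * (g * x)⁻¹ * (g * t * g⁻¹) := by
      have := h.inverts (hn t t2) t1 t2 (inv_mem hx)
      rw [inv_inv, inv_eq_of_mul_eq_one_right t2] at this
      nth_rw 2 [← this]
      group
    rw [e]
    exact h.mul_mem_of_inv (hn _ (BSW.conj_mul_self t2)) (BSW.conj_ne_one t1) (BSW.conj_mul_self t2)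
      (hn _ (BSW.conj_mul_self t2)) (BSW.conj_ne_one t1) (BSW.conj_mul_self t2)
  have h1 : P ≤ ⊥ := h0 ▸ Core.le_pPrimeCore (by rw [h.cardP]; simp)
  exact x1 (h1 hx)

variable {w : G} (w2 : w * w = 1) (hw : w ∉ normalizer (P : Set G))
include w2 hw

theorem uniq {x : G} (hx : x ∈ P) (e : w * x * w ∈ normalizer (P : Set G)) : x = 1 :=
  by_contra fun x1 => hw (h.ti hx x1 (by rwa [inv_eq_of_mul_eq_one_right w2]))

theorem cosets : (normalizer (P : Set G)).index = 2 * m + 2 ∧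
    ∀ g, g ∉ normalizer (P : Set G) → ∃ x ∈ P, w * x⁻¹ * g ∈ normalizer (P : Set G) := by
  have hw' := inv_eq_of_mul_eq_one_right w2
  let f : Option P → G ⧸ normalizer (P : Set G) := fun o => match o with
    | none => ((1 : G) : G ⧸ normalizer (P : Set G))
    | some x => ((x * w : G) : G ⧸ normalizer (P : Set G))
  have h1 : ∀ x : P, ((1 : G) : G ⧸ normalizer (P : Set G)) ≠ (x * w : G) := fun x e => by
    rw [QuotientGroup.eq, inv_one, one_mul, mul_mem_cancel_left (le_normalizer x.2)] at e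
    exact hw e
  have hf : Function.Injective f := by
    rintro (_ | x) (_ | y) e
    · rfl
    · exact (h1 y e).elim
    · exact (h1 x e.symm).elim
    · have e := QuotientGroup.eq.1 e
      rw [mul_inv_rev, hw', ← mul_assoc, mul_assoc w] at e
      exact congrArg some (Subtype.ext (inv_mul_eq_one.1
        (h.uniq w2 hw (mul_mem (inv_mem x.2) y.2) e)))
  have h2 : Nat.card (Option P) = 2 * m + 2 := by rw [Finite.card_option, h.cardP]
  refine ⟨le_antisymm h.index_le (h2 ▸ Nat.card_le_card_of_injective f hf), fun g hg => ?_⟩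
  obtain ⟨_ | x, e⟩ := (hf.bijective_of_nat_card_le (h2 ▸ h.index_le)).2 (g : G ⧸ _)
  · exact (hg (by simpa using QuotientGroup.eq.1 e)).elim
  · have e := QuotientGroup.eq.1 e
    rw [mul_inv_rev, hw'] at e
    exact ⟨x, x.2, e⟩

theorem decomp {b : G} (hb : b ∈ normalizer (P : Set G)) :
    ∃ x ∈ P, ∃ τ ∈ BSW.Kt P w, b = x * τ := by
  obtain ⟨x, hx, e⟩ := (h.cosets w2 hw).2 (b * w) (by rwa [mul_mem_cancel_left hb])
  refine ⟨x, hx, x⁻¹ * b, BSW.mem_Kt.2 ⟨mul_mem (le_normalizer (inv_mem hx)) hb, ?_⟩, by group⟩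
  rw [inv_eq_of_mul_eq_one_right w2]
  convert e using 1
  group

theorem eq_one_of_mem {τ : G} (hτ : τ ∈ BSW.Kt P w) (hP : τ ∈ P) : τ = 1 :=
  h.uniq w2 hw hP (by simpa [inv_eq_of_mul_eq_one_right w2] using hτ.2)

theorem card_T : Nat.card (BSW.Kt P w) = m := by
  let f : P × BSW.Kt P w → normalizer (P : Set G) := fun z =>
    ⟨z.1 * z.2, mul_mem (le_normalizer z.1.2) z.2.2.1⟩
  have hf : Function.Bijective f := by
    refine ⟨fun ⟨x, σ⟩ ⟨y, τ⟩ e => ?_, fun b => ?_⟩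
    · have e : (x : G) * σ = y * τ := congrArg Subtype.val e
      have h1 : σ = τ := by
        refine Subtype.ext (mul_inv_eq_one.1 (h.eq_one_of_mem w2 hw (mul_mem σ.2 (inv_mem τ.2)) ?_))
        rw [show (σ : G) * (τ : G)⁻¹ = (x : G)⁻¹ * (x * σ) * (τ : G)⁻¹ by group, e,
          mul_assoc, mul_inv_cancel_right]
        exact mul_mem (inv_mem x.2) y.2
      subst h1
      rw [Subtype.ext (mul_right_cancel e)]
    · obtain ⟨x, hx, τ, hτ, e⟩ := h.decomp w2 hw b.2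
      exact ⟨(⟨x, hx⟩, ⟨τ, hτ⟩), Subtype.ext e.symm⟩
  have h1 := Nat.card_congr (Equiv.ofBijective f hf)
  have h2 := (normalizer (P : Set G)).card_mul_index
  rw [(h.cosets w2 hw).1, h.card, ← h1, Nat.card_prod, h.cardP, ← mul_assoc, mul_left_inj' (by omega),
    mul_right_inj' (by omega)] at h2
  exact h2

omit [Finite G] h hw in
theorem w_norm {τ : G} (hτ : τ ∈ BSW.Kt P w) : w * τ * w⁻¹ ∈ BSW.Kt P w := by
  refine BSW.mem_Kt.2 ⟨hτ.2, ?_⟩
  rw [show w * (w * τ * w⁻¹) * w⁻¹ = w * w * τ * (w * w)⁻¹ by group, w2]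
  simpa using hτ.1

theorem w_inv {K : Subgroup G} {t s : G} (hH : Hyp K t s) (hm : Even m ∨ m.Coprime (Nat.card K))
    {τ : G} (hτ : τ ∈ BSW.Kt P w) : w * τ * w⁻¹ = τ⁻¹ := by
  have w1 : w ≠ 1 := fun e => hw (e ▸ one_mem _)
  rcases hm with hm | hm
  · obtain ⟨⟨u, hu⟩, ho⟩ := exists_prime_orderOf_dvd_card' (G := BSW.Kt P w) 2
      (h.card_T w2 hw ▸ even_iff_two_dvd.1 hm)
    rw [← orderOf_coe] at ho
    have u1 : u ≠ 1 := fun e => by simp [e] at ho
    have u2 : u * u = 1 := (sq u).symm.trans (orderOf_dvd_iff_pow_eq_one.1 ho.dvd)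
    have h1 : ∀ v ∈ BSW.Kt P w, v ≠ 1 → v * v = 1 → v = u := fun v hv v1 v2 => by
      rw [eq_inv_of_mul_eq_one_left (h.eq_one_of_mem w2 hw (mul_mem hv hu)
        (h.mul_mem_of_inv hv.1 v1 v2 hu.1 u1 u2)), inv_eq_of_mul_eq_one_right u2]
    obtain ⟨K', s', hH', -⟩ := hH.exists_hyp u1 u2
    refine hH'.inv_of_not_mem (mul_inv_eq_iff_eq_mul.1 (h1 _ (w_norm w2 hu) (BSW.conj_ne_one u1)
      (BSW.conj_mul_self u2))) (fun e => hw (hH'.eq_t e w1 w2 ▸ hu.1)) ?_
    by_contra hK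
    have h2 := hH'.mul_self_of_not_mem (mul_inv_eq_iff_eq_mul.1 (h1 _
      (mul_mem (mul_mem hτ hu) (inv_mem hτ)) (BSW.conj_ne_one u1) (BSW.conj_mul_self u2))) hK
    exact hK (h1 τ hτ (fun e => hK (e ▸ one_mem _)) h2 ▸ hH'.tK)
  · obtain ⟨K', s', hH', hc⟩ := hH.exists_hyp w1 w2
    refine Frob.conj_eq_inv_of_fpf (K := BSW.Kt P w) w2 ?_ (fun k hk e => ?_) hτ
    · refine mem_normalizer_iff.2 fun x => ⟨w_norm w2, fun hx => ?_⟩
      have := w_norm w2 hx
      rwa [show w * (w * x * w⁻¹) * w⁻¹ = w * w * x * (w * w)⁻¹ by group, w2, one_mul, inv_one,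
        mul_one] at this
    · rw [← orderOf_eq_one_iff]
      refine Nat.eq_one_of_dvd_coprimes hm (h.card_T w2 hw ▸ orderOf_dvd_natCard _ hk) ?_
      by_cases hK : k ∈ K'
      · exact hc ▸ K'.orderOf_dvd_natCard hK
      · exact (orderOf_dvd_of_pow_eq_one ((sq k).trans
          (hH'.mul_self_of_not_mem e.symm hK))).trans hH.two_dvd

theorem zas {K : Subgroup G} {t s : G} (hH : Hyp K t s) (hm : Even m ∨ m.Coprime (Nat.card K)) :
    Zas P (BSW.Kt P w) w m where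
  ab _ hx _ hy := h.ab hx hy
  cardP := h.cardP
  cardT := h.card_T w2 hw
  m_pos := h.m_pos
  T_le _ hτ := hτ.1
  fpf τ hτ x hx e := or_iff_not_imp_right.2 fun x1 => h.eq_one_of_mem w2 hw hτ ((h.cc x hx x1 τ).1 e)
  w2 := w2
  w_not := hw
  w_inv τ hτ := by
    rw [← h.w_inv w2 hw hH hm hτ, ← mul_assoc, ← mul_assoc, w2, one_mul,
      inv_eq_of_mul_eq_one_right w2]
  decomp _ hb := h.decomp w2 hw hb
  bruhat g hg := by
    obtain ⟨x, hx, e⟩ := (h.cosets w2 hw).2 g hg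
    obtain ⟨y, hy, τ, hτ, e⟩ := h.decomp w2 hw e
    refine ⟨x, hx, τ, hτ, τ⁻¹ * y * τ⁻¹⁻¹, (mem_normalizer_iff.1 (inv_mem hτ.1) y).1 hy, ?_⟩
    calc g = x * (w * w) * x⁻¹ * g := by rw [w2]; group
      _ = x * w * (w * x⁻¹ * g) := by group
      _ = _ := by rw [e]; group
  uniq _ hx e := h.uniq w2 hw hx e

end Data

theorem Data.main {P : Subgroup G} {m : ℕ} (h : Data P m) {K : Subgroup G} {t s : G}
    (hH : Hyp K t s) (h0 : pPrimeCore 2 G = ⊥) (hm : Even m ∨ m.Coprime (Nat.card K)) :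
    ∃ (F : Type) (_ : Field F) (_ : Fintype F), Fintype.card F = 2 * m + 1 ∧
      Nonempty (G ≃* Matrix.ProjectiveSpecialLinearGroup (Fin 2) F) := by
  obtain ⟨w, w2, hw⟩ := h.exists_inv_not_mem h0 hH.t1 hH.t2
  exact (h.zas w2 hw hH hm).main

end Cfsg.Agent.ODD
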