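import Mathlib
import Cfsg.Agent.Lib.ODD.Basic
import Cfsg.Agent.Lib.OO.CF7

/-!
The virtual characters `η_φ = (1 - φ)^G - 1` and the order formula.
-/

set_option autoImplicit false

namespace Cfsg.Agent.ODD

open Subgroup OO
open scoped ComplexConjugate

universe u

variable {G : Type u} [Group G] [Finite G]

/-- `(1 - φ)^G - 1` -/
noncomputable def eta (K : Subgroup G) (φ : G → ℂ) : G → ℂ := cfInd ⊤ K (cf1 K - φ) - cf1 ⊤

theorem eta_vchar {K : Subgroup G} {φ : G → ℂ} (hφ : IsIrr K φ) : eta K φ ∈ ZIrr ⊤ :=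
  sub_mem (cfInd_vchar le_top (sub_mem (cf1_vchar K) (irr_vchar hφ))) (cf1_vchar ⊤)

theorem eta_aut (K : Subgroup G) (φ : G → ℂ) (u : ℂ ≃+* ℂ) :
    cfAut u (eta K φ) = eta K (cfAut u φ) := by
  rw [eta, eta, cfAut_sub, cfAut_cfInd, cfAut_sub, cfAut_cf1, cfAut_cf1]

theorem eta_cf1 (K : Subgroup G) : eta K (cf1 K) = -cf1 ⊤ := by
  rw [eta, sub_self, map_zero, zero_sub]

theorem eta_dot {K : Subgroup G} {φ χ : G → ℂ} (hφ : IsIrr K φ) (hχ : χ ∈ CF ⊤) :
    ⟪χ, eta K φ⟫[⊤] = ⟪χ, cf1 K⟫[K] - ⟪χ, φ⟫[K] - ⟪χ, cf1 ⊤⟫[⊤] := by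
  rw [eta, cfdotBr, cfdot_cfInd_right le_top hχ
    (CF_le_suppOn K (sub_mem (cf1_mem_CF K) hφ.mem_CF)), cfdotBr]

theorem eta_off {K : Subgroup G} {φ : G → ℂ} (hφ : IsIrr K φ) {y : G}
    (hy : ∀ g : G, g * y * g⁻¹ ∉ K) : eta K φ y = -1 := by
  rw [eta, Pi.sub_apply, cfInd_eq_zero, cf1E (mem_top y), zero_sub]
  intro x _
  exact cfun0 (sub_mem (cf1_mem_CF K) hφ.mem_CF) (by simpa using hy x⁻¹)

/-- the involutions -/
def Invs (G : Type*) [Group G] : Set G := {u | u ≠ 1 ∧ u * u = 1}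

/-- the sum of `χ` over all products of two involutions -/
noncomputable def invSum (χ : G → ℂ) : ℂ := ∑ v ∈ elts (Invs G), ∑ u ∈ elts (Invs G), χ (u * v)

theorem invSum_add (χ ψ : G → ℂ) : invSum (χ + ψ) = invSum χ + invSum ψ := by
  simp only [invSum, Pi.add_apply, Finset.sum_add_distrib]

theorem sum_indicator_invs (f : G → ℂ) :
    ∑ x ∈ elts ((⊤ : Subgroup G) : Set G), (Invs G).indicator (1 : G → ℂ) x * f x =
      ∑ x ∈ elts (Invs G), f x := by
  rw [← sum_elts_subset (A := Invs G) (fun x _ => mem_top x) fun x _ hx => by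
    rw [Set.indicator_of_notMem hx, zero_mul]]
  exact Finset.sum_congr rfl fun x hx => by
    rw [Set.indicator_of_mem (mem_elts.1 hx), Pi.one_apply, one_mul]

omit [Finite G] in
theorem conj_mem_invs {g x : G} : g * x * g⁻¹ ∈ Invs G ↔ x ∈ Invs G := by
  simp only [Invs, Set.mem_ofPred_eq, ne_eq, conj_eq_one_iff, conj_mul]

theorem indicator_invs_mem : (Invs G).indicator (1 : G → ℂ) ∈ CF (⊤ : Subgroup G) :=
  mem_CF_of (fun x hx => (hx (mem_top x)).elim) fun g _ x _ => by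
    by_cases hx : x ∈ Invs G
    · rw [Set.indicator_of_mem hx, Set.indicator_of_mem (conj_mem_invs.2 hx)]; rfl
    · rw [Set.indicator_of_notMem hx, Set.indicator_of_notMem (mt conj_mem_invs.1 hx)]

theorem invSum_dirr {χ : G → ℂ} (hχ : IsDirr ⊤ χ) :
    χ 1 * invSum χ = (∑ x ∈ elts (Invs G), χ x) ^ 2 := by
  have key : ∀ χ : G → ℂ, IsIrr ⊤ χ → χ 1 * invSum χ = (∑ x ∈ elts (Invs G), χ x) ^ 2 :=
    fun χ hχ => by
      rw [invSum, Finset.mul_sum, sq, Finset.mul_sum]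
      refine Finset.sum_congr rfl fun v _ => ?_
      have := irr_conv hχ indicator_invs_mem v
      rwa [sum_indicator_invs, sum_indicator_invs] at this
  rcases hχ with h | h
  · exact key χ h
  · have := key _ h
    simp only [invSum, Pi.neg_apply, Finset.sum_neg_distrib] at this ⊢
    linear_combination this

namespace Hyp

variable {K : Subgroup G} {t s : G} (h : Hyp K t s) {φ ψ : G → ℂ}
include h

theorem lin (hφ : IsIrr K φ) : IsLinChar K φ := irr_abelian_lin h.ab hφ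

theorem eta_apply (hφ : IsIrr K φ) {y : G} (hy : y ∈ K) : eta K φ y = 1 - φ y - conj (φ y) := by
  classical
  have hF := sub_mem (cf1_mem_CF K) hφ.mem_CF
  rw [eta, Pi.sub_apply, cf1E (mem_top y)]
  by_cases y1 : y = 1
  · rw [y1, cfInd1 le_top, Pi.sub_apply, (h.lin hφ).one]
    simp
  rw [cfIndE' _ _ (mem_top y), ← sum_elts_subset (A := centralizer ({t} : Set G))
    (fun x _ => mem_top x) fun x _ hx => cfun0 hF fun e =>
      hx (Cls.mem_centralizer_single.2 (h.ti y hy y1 x e))]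
  have hs : elts (K : Set G) ⊆ elts (centralizer ({t} : Set G) : Set G) := fun x hx =>
    mem_elts.2 (h.le_cent (mem_elts.1 hx))
  rw [← Finset.sum_sdiff hs, Finset.sum_congr rfl (g := fun _ => 1 - conj (φ y)) fun x hx => by
      rw [Finset.mem_sdiff, mem_elts, mem_elts] at hx
      rw [h.inv_of_not_mem (Cls.mem_centralizer_single.1 hx.1) hx.2 hy, Pi.sub_apply,
        cf1E (inv_mem hy), char_inv hφ.isChar],
    Finset.sum_congr (s₁ := elts (K : Set G)) rfl (g := fun _ => 1 - φ y) fun x hx => by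
      rw [cfunJ hF (mem_elts.1 hx), Pi.sub_apply, cf1E hy],
    Finset.sum_const, Finset.sum_const, Finset.card_sdiff_of_subset hs, card_elts, card_elts,
    h.card_cent, two_mul, Nat.add_sub_cancel, nsmul_eq_mul, nsmul_eq_mul]
  have := cardC_ne_zero K
  field_simp
  ring

theorem eta_one (hφ : IsIrr K φ) : eta K φ 1 = -1 := by
  rw [h.eta_apply hφ (one_mem _), (h.lin hφ).one]; simp

theorem eta_star (hφ : IsIrr K φ) : eta K (star φ) = eta K φ := by
  ext y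
  by_cases hy : ∃ g : G, g * y * g⁻¹ ∈ K
  · obtain ⟨g, hg⟩ := hy
    rw [← cfunJ (vchar_mem_CF (eta_vchar hφ)) (mem_top g),
      ← cfunJ (vchar_mem_CF (eta_vchar hφ.star)) (mem_top g), h.eta_apply hφ hg,
      h.eta_apply hφ.star hg, cfConjCE, Complex.conj_conj]
    ring
  · push Not at hy
    rw [eta_off hφ hy, eta_off hφ.star hy]

omit h in
theorem eta_dot_one (hφ : IsIrr K φ) (h1 : φ ≠ cf1 K) : ⟪cf1 ⊤, eta K φ⟫[⊤] = 0 := by
  have e : ∀ χ, ⟪cf1 ⊤, χ⟫[K] = ⟪cf1 K, χ⟫[K] := fun χ =>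
    cfdot_congr (fun x hx => by rw [cf1E hx, cf1E (mem_top x)]) fun _ _ => rfl
  rw [eta_dot hφ (cf1_mem_CF ⊤), e, e, cfdot_cf1, cfdot_cf1, cfdot_symm0 (hφ.cfdot_cf1 h1)]
  simp

open Classical in
theorem eta_eta (hφ : IsIrr K φ) (h1 : φ ≠ cf1 K) (hψ : IsIrr K ψ) (h2 : ψ ≠ cf1 K) :
    ⟪eta K ψ, eta K φ⟫[⊤] = 1 + (if ψ = φ then 1 else 0) + if star ψ = φ then 1 else 0 := by
  have e : ∀ χ, ⟪eta K ψ, χ⟫[K] = ⟪cf1 K - ψ - star ψ, χ⟫[K] := fun χ =>
    cfdot_congr (fun x hx => by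
      rw [h.eta_apply hψ hx, Pi.sub_apply, Pi.sub_apply, cf1E hx, cfConjCE]) fun _ _ => rfl
  have h3 : star ψ ≠ cf1 K := fun e => h2 (by rw [← star_star ψ, e, star_cf1])
  rw [eta_dot hφ (vchar_mem_CF (eta_vchar hψ)), cfdot_symm0 (eta_dot_one hψ h2), e, e, cfdotBl,
    cfdotBl, cfdotBl, cfdotBl, cfdot_cf1, hψ.cfdot_cf1 h2, hψ.star.cfdot_cf1 h3,
    cfdot_symm0 (hφ.cfdot_cf1 h1), cfdot_irr hψ hφ, cfdot_irr hψ.star hφ]
  ring

/-- values on `K` of a class function orthogonal to `1` -/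
theorem apply_eq {v : G → ℂ} (hv : v ∈ CF ⊤) (h1 : ⟪v, cf1 ⊤⟫[⊤] = 0) {y : G} (hy : y ∈ K) :
    v y = ⟪v, cf1 K⟫[K] * cfReg K y - ∑ ψ ∈ Irr K, ⟪v, eta K ψ⟫[⊤] * ψ y := by
  rw [← cfResE v hy, cfun_apply_sum_cfdot (cfRes_mem_CF le_top hv), cfReg_sum, Finset.sum_apply,
    Finset.mul_sum, ← Finset.sum_sub_distrib]
  refine Finset.sum_congr rfl fun ψ hψ => ?_
  rw [mem_Irr] at hψ
  rw [eta_dot hψ hv, h1, cfdot_cfRes_left, Pi.smul_apply, (h.lin hψ).one, one_smul]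
  ring

theorem sum_apply {y : G} : ∑ ψ ∈ Irr K, ψ y = cfReg K y := by
  rw [cfReg_sum, Finset.sum_apply]
  exact Finset.sum_congr rfl fun ψ hψ => by
    rw [Pi.smul_apply, (h.lin (mem_Irr.1 hψ)).one, one_smul]

theorem card_invs : (elts (Invs G)).card = (centralizer ({t} : Set G)).index := by
  rw [card_elts_set, ← Cls.ncard_conjugatesOf]
  congr 1
  ext u
  refine ⟨fun hu => h.one_class _ _ h.t1 h.t2 hu.1 hu.2, fun hu => ?_⟩
  obtain ⟨g, rfl⟩ := isConj_iff.1 hu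
  exact conj_mem_invs.2 ⟨h.t1, h.t2⟩

theorem sum_invs {χ : G → ℂ} (hχ : χ ∈ CF ⊤) :
    ∑ x ∈ elts (Invs G), χ x = (centralizer ({t} : Set G)).index * χ t := by
  rw [Finset.sum_congr rfl (g := fun _ => χ t) fun x hx => by
    obtain ⟨g, rfl⟩ := isConj_iff.1 (h.one_class _ _ h.t1 h.t2 (mem_elts.1 hx).1 (mem_elts.1 hx).2)
    exact cfunJ hχ (mem_top g) t, Finset.sum_const, h.card_invs, nsmul_eq_mul]

omit [Finite G] in
theorem inv_mul_iff {y u : G} (hy : y ∈ K) (y1 : y ≠ 1) :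
    u ∈ Invs G ∧ u * y ∈ Invs G ↔ u * t = t * u ∧ u ∉ K := by
  refine ⟨fun ⟨h1, h2⟩ => ⟨h.ti y hy y1 u ?_, fun hu => y1 ?_⟩, fun ⟨h1, h2⟩ =>
    ⟨⟨fun e => h2 (e ▸ one_mem _), h.mul_self_of_not_mem h1 h2⟩,
      fun e => mul_not_mem h2 hy (e ▸ one_mem _), h.mul_self_of_not_mem
        (by rw [mul_assoc, h.comm_t hy, ← mul_assoc, h1, mul_assoc]) (mul_not_mem h2 hy)⟩⟩
  · rw [inv_eq_of_mul_eq_one_right h1.2, eq_inv_of_mul_eq_one_left ((mul_assoc _ u y).trans h2.2)]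
    exact inv_mem hy
  · have := h.eq_t (mul_mem hu hy) h2.1 h2.2
    rwa [h.eq_t hu h1.1 h1.2, mul_eq_left] at this

theorem invSum_ind (hφ : IsIrr K φ) (h1 : φ ≠ cf1 K) :
    invSum (cfInd ⊤ K (cf1 K - φ)) = Nat.card G * Nat.card K := by
  classical
  set θ := cfInd ⊤ K (cf1 K - φ)
  let ι : G → ℂ := (Invs G).indicator 1
  let γ : G → ℂ := fun y => ∑ u ∈ elts (Invs G), ι (u * y)
  have hγ : γ ∈ CF ⊤ := mem_CF_of (fun x hx => (hx (mem_top x)).elim) fun g _ x _ => by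
    simp only [γ]
    rw [← sum_elts_equiv (A := Invs G) (MulAut.conj g).toEquiv fun x => conj_mem_invs.symm]
    exact Finset.sum_congr rfl fun u _ => by
      refine Eq.trans ?_ (cfunJ indicator_invs_mem (mem_top g) (u * x))
      simp [ι, mul_assoc]
  have e1 : invSum θ = ∑ y ∈ elts ((⊤ : Subgroup G) : Set G), γ y * θ y := by
    simp only [invSum, γ, Finset.sum_mul]
    rw [Finset.sum_comm, Finset.sum_comm (s := elts ((⊤ : Subgroup G) : Set G))]
    refine Finset.sum_congr rfl fun u hu => ?_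
    rw [← sum_indicator_invs, ← sum_elts_mul_left (mem_top u)]
    refine Finset.sum_congr rfl fun y _ => ?_
    rw [← mul_assoc, (mem_elts.1 hu).2, one_mul]
  have e2 : ∀ y ∈ K, y ≠ 1 → γ y = Nat.card K := fun y hy y1 => by
    have hs : elts (K : Set G) ⊆ elts (centralizer ({t} : Set G) : Set G) := fun x hx =>
      mem_elts.2 (h.le_cent (mem_elts.1 hx))
    have : ((elts (Invs G)).filter fun u => u * y ∈ Invs G) =
        elts (centralizer ({t} : Set G) : Set G) \ elts (K : Set G) := by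
      ext u
      rw [Finset.mem_filter, Finset.mem_sdiff, mem_elts, mem_elts, mem_elts, h.inv_mul_iff hy y1]
      exact and_congr_left' Cls.mem_centralizer_single.symm
    simp only [γ, ι, Set.indicator_apply, Pi.one_apply, Finset.sum_boole]
    rw [this, Finset.card_sdiff_of_subset hs, card_elts, card_elts, h.card_cent, two_mul,
      Nat.add_sub_cancel]
  have e3 := cfdot_cfInd_left le_top (CF_le_suppOn K (sub_mem (cf1_mem_CF K) hφ.mem_CF))
    (star_mem_CF hγ)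
  have e4 : ⟪cf1 K - φ, star γ⟫[K] = ⟪cf1 K - φ, (Nat.card K : ℂ) • cf1 K⟫[K] := by
    simp only [cfdotE]
    congr 1
    refine Finset.sum_congr rfl fun y hy => ?_
    by_cases y1 : y = 1
    · rw [y1, Pi.sub_apply, (h.lin hφ).one]; simp
    · rw [cfConjCE, e2 y (mem_elts.1 hy) y1, Pi.smul_apply, cf1E (mem_elts.1 hy)]; simp
  rw [e4, cfdotZr, cfdotBl, cfdot_cf1, hφ.cfdot_cf1 h1, cfdotE, card_top] at e3
  have : (Nat.card G : ℂ) ≠ 0 := Nat.cast_ne_zero.2 Nat.card_pos.ne'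
  rw [e1, inv_mul_eq_iff_eq_mul₀ this] at *
  simpa [θ, mul_comm] using e3

/-- the order formula -/
theorem order (hφ : IsIrr K φ) (h1 : φ ≠ cf1 K) {v w : G → ℂ} (hv : IsDirr ⊤ v) (hw : IsDirr ⊤ w)
    (e : eta K φ = v + w) : (centralizer ({t} : Set G)).index *
      (v 1 * w 1 + v t ^ 2 * w 1 + w t ^ 2 * v 1) = 2 * (Nat.card K : ℂ) ^ 2 * v 1 * w 1 := by
  have e1 := h.invSum_ind hφ h1
  have e2 := invSum_dirr hv
  have e3 := invSum_dirr hw
  have e4 := invSum_dirr (isIrr_cf1 (⊤ : Subgroup G)).isDirr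
  rw [h.sum_invs hv.mem_CF] at e2
  rw [h.sum_invs hw.mem_CF] at e3
  rw [h.sum_invs (cf1_mem_CF ⊤), cf1E (mem_top _), cf1E (mem_top _)] at e4
  rw [eq_add_of_sub_eq e, invSum_add, invSum_add, h.card_eq] at e1
  have : ((centralizer ({t} : Set G)).index : ℂ) ≠ 0 := Nat.cast_ne_zero.2 index_ne_zero_of_finite
  refine mul_left_cancel₀ this ?_
  push_cast at e1
  linear_combination v 1 * w 1 * e1 - w 1 * e2 - v 1 * e3 - v 1 * w 1 * e4

end Hyp

end Cfsg.Agent.ODD
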