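import Mathlib
import Cfsg.Agent.Lib.ODD.Char1

/-!
The common constituent of the virtual characters `η_φ`.
-/

set_option autoImplicit false

namespace Cfsg.Agent.ODD

open Subgroup OO
open scoped ComplexConjugate

universe u

variable {G : Type u} [Group G] [Finite G]

theorem dirr_sub {H : Subgroup G} {η v : G → ℂ} (hη : η ∈ ZIrr H) (h2 : ⟪η, η⟫[H] = 2)
    (hv : IsDirr H v) (h1 : ⟪v, η⟫[H] = 1) : IsDirr H (η - v) := by
  refine isDirr_iff.2 ⟨sub_mem hη hv.vchar, cfnorm_eq_one_iff.2 ?_⟩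
  rw [cfdotBl, cfdotBr, cfdotBr, h2, cfdot_vchar_comm hη hv.vchar, h1, hv.cfdot_self]
  ring

theorem coef_cases {H : Subgroup G} {η v : G → ℂ} (hη : η ∈ ZIrr H) (h4 : cfnorm H η < 4)
    (hv : IsDirr H v) : ⟪v, η⟫[H] = 0 ∨ ⟪v, η⟫[H] = 1 ∨ ⟪v, η⟫[H] = -1 :=
  or_iff_not_imp_left.2 fun h0 => (Cint_cfdot_vchar hv.vchar hη).eq_one_or_neg_one h0
    ((cfCauchySchwarz v η).trans_lt (by rwa [hv.cfnorm, one_mul]))

structure Dec (K : Subgroup G) (φ v w : G → ℂ) : Prop where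
  irr : IsIrr K φ
  nr : star φ ≠ φ
  hv : IsDirr ⊤ v
  hw : IsDirr ⊤ w
  eq : eta K φ = v + w
  orth : ⟪v, w⟫[⊤] = 0

theorem ne_cf1_of_nr {K : Subgroup G} {φ : G → ℂ} (h : star φ ≠ φ) : φ ≠ cf1 K := fun e =>
  h (by rw [e, star_cf1])

namespace Dec

variable {K : Subgroup G} {φ ψ v w : G → ℂ} (d : Dec K φ v w)
include d

theorem symm : Dec K φ w v := ⟨d.irr, d.nr, d.hw, d.hv, d.eq.trans (add_comm _ _), cfdot_symm0 d.orth⟩

theorem dot_self : ⟪v, eta K φ⟫[⊤] = 1 := by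
  rw [d.eq, cfdotDr, d.hv.cfdot_self, d.orth, add_zero]

theorem dot_one : ⟪v, cf1 ⊤⟫[⊤] = 0 := by
  have h1 := (isIrr_cf1 (⊤ : Subgroup G)).isDirr
  have h2 := cfdot_symm0 (Hyp.eta_dot_one d.irr (ne_cf1_of_nr d.nr))
  rw [d.eq, cfdotDl] at h2
  by_contra h0
  have h3 : ⟪w, cf1 ⊤⟫[⊤] ≠ 0 := fun e => h0 (by rwa [e, add_zero] at h2)
  have := d.orth
  rcases d.hv.eq_or_eq_neg h1 h0 with rfl | rfl <;> rcases d.hw.eq_or_eq_neg h1 h3 with rfl | rfl <;>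
    simp [cfdotNl, cfdotNr, cfdot_cf1] at this

variable {t s : G} (h : Hyp K t s)
include h

theorem one_add : v 1 + w 1 = -1 := by rw [← h.eta_one d.irr, d.eq, Pi.add_apply]

theorem dich (hψ : IsIrr K ψ) (h1 : ψ ≠ cf1 K) (hn : ⟪v, eta K ψ⟫[⊤] ≠ 1) :
    ⟪v, eta K ψ⟫[⊤] = 0 ∧ ⟪w, eta K ψ⟫[⊤] = 1 ∧ ψ ≠ φ ∧ ψ ≠ star φ := by
  have e1 : ψ ≠ φ := fun e => hn (e ▸ d.dot_self)
  have e2 : ψ ≠ star φ := fun e => hn (by rw [e, h.eta_star d.irr, d.dot_self])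
  have e3 := h.eta_eta hψ h1 d.irr (ne_cf1_of_nr d.nr)
  rw [if_neg e1.symm, if_neg e2.symm, d.eq, cfdotDl, add_zero, add_zero] at e3
  have e4 : cfnorm ⊤ (eta K ψ) < 4 := by
    rw [cfnorm_eq_re, h.eta_eta hψ h1 hψ h1]
    split_ifs <;> norm_num
  refine ⟨?_, ?_, e1, e2⟩ <;>
  rcases coef_cases (eta_vchar hψ) e4 d.hv with e | e | e <;>
  rcases coef_cases (eta_vchar hψ) e4 d.hw with e' | e' | e' <;>
  first | assumption | exact (hn e).elim | (rw [e, e'] at e3; norm_num at e3)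

end Dec

namespace Hyp

variable {K : Subgroup G} {t s : G} (h : Hyp K t s) {φ ψ v w : G → ℂ}
include h

theorem eta_norm (hφ : IsIrr K φ) (nr : star φ ≠ φ) : ⟪eta K φ, eta K φ⟫[⊤] = 2 := by
  rw [h.eta_eta hφ (ne_cf1_of_nr nr) hφ (ne_cf1_of_nr nr), if_pos rfl, if_neg nr]
  norm_num

theorem dec_of_dot (hφ : IsIrr K φ) (nr : star φ ≠ φ) (hv : IsDirr ⊤ v)
    (h1 : ⟪v, eta K φ⟫[⊤] = 1) : Dec K φ v (eta K φ - v) :=
  ⟨hφ, nr, hv, dirr_sub (eta_vchar hφ) (h.eta_norm hφ nr) hv h1, (add_sub_cancel _ _).symm, by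
    rw [cfdotBr, h1, hv.cfdot_self, sub_self]⟩

theorem exists_dec (hφ : IsIrr K φ) (nr : star φ ≠ φ) : ∃ v w, Dec K φ v w := by
  classical
  have h2 : cfnorm ⊤ (eta K φ) = 2 := cfnorm_eq_of_cfdot (by simpa using h.eta_norm hφ nr)
  obtain ⟨S, h3, h4, h5, h6⟩ := vchar_small_norm (eta_vchar hφ) (by rw [h2]; norm_num)
  obtain ⟨v, w, hne, rfl⟩ := Finset.card_eq_two.1 (by exact_mod_cast h5.trans h2 : S.card = 2)
  exact ⟨v, w, hφ, nr, h4 v (by simp), h4 w (by simp), h6.trans (Finset.sum_pair hne),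
    h3.2 v (by simp) w (by simp) hne⟩

theorem real_apply (hφ : IsIrr K φ) {y : G} (hy : y ∈ K) (e : conj (φ y) = φ y) :
    φ y = 1 ∨ φ y = -1 :=
  mul_self_eq_one_iff.1 (by nth_rw 2 [← e]; exact lin_char_mul_conj (h.lin hφ) hy)

theorem conj_t (hφ : IsIrr K φ) : conj (φ t) = φ t := by
  rw [← char_inv hφ.isChar, inv_eq_of_mul_eq_one_right h.t2]

theorem real_unique (hφ : IsIrr K φ) (r1 : star φ = φ) (n1 : φ ≠ cf1 K) (hψ : IsIrr K ψ)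
    (r2 : star ψ = ψ) (n2 : ψ ≠ cf1 K) : φ = ψ := by
  let f : K →* K := MonoidHom.mk' (fun x => x * x) fun x y => Subtype.ext (by
    simp only [coe_mul]
    rw [mul_assoc, mul_assoc, ← mul_assoc (y : G), h.comm y.2 x.2, mul_assoc])
  have hk : f.ker = zpowers ⟨t, h.tK⟩ := by
    refine le_antisymm (fun x hx => ?_) (zpowers_le.2 (Subtype.ext h.t2))
    by_cases x1 : x = 1
    · exact x1 ▸ one_mem _
    · rw [show x = ⟨t, h.tK⟩ from Subtype.ext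
        (h.eq_t x.2 (fun e => x1 (Subtype.ext e)) (congrArg Subtype.val hx))]
      exact mem_zpowers _
  have hi : f.range.index = 2 := by
    have h1 := f.range.card_mul_index
    rw [← index_ker, ← f.ker.card_mul_index, mul_comm, mul_left_inj' index_ne_zero_of_finite, hk,
      Nat.card_zpowers, ← orderOf_coe] at h1
    exact h1.trans h.orderOf_t
  have key : ∀ χ, IsIrr K χ → star χ = χ → χ ≠ cf1 K → ∀ x : K,
      (x ∈ f.range → χ x = 1) ∧ (x ∉ f.range → χ x = -1) := fun χ hχ r n => by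
    have h1 : ∀ x : K, x ∈ f.range → χ x = 1 := by
      rintro _ ⟨x, rfl⟩
      refine (lin_charM (h.lin hχ) x.2 x.2).trans ?_
      rcases h.real_apply hχ x.2 (congrFun r x) with e | e <;> simp [e]
    obtain ⟨z, hz, hz1⟩ : ∃ z ∈ K, χ z ≠ 1 := by
      by_contra hn
      push Not at hn
      exact n (cfun_ext hχ.mem_CF (cf1_mem_CF K) fun x hx => by rw [hn x hx, cf1E hx])
    refine fun x => ⟨h1 x, fun hx => ?_⟩
    have h2 := h1 (x * ⟨z, hz⟩) ((mul_mem_iff_of_index_two hi).2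
      (iff_of_false hx fun e => hz1 (h1 _ e)))
    rw [coe_mul, lin_charM (h.lin hχ) x.2 hz,
      (h.real_apply hχ hz (congrFun r z)).resolve_left hz1] at h2
    linear_combination -h2
  refine cfun_ext hφ.mem_CF hψ.mem_CF fun x hx => ?_
  by_cases e : (⟨x, hx⟩ : K) ∈ f.range
  · exact ((key φ hφ r1 n1 _).1 e).trans ((key ψ hψ r2 n2 _).1 e).symm
  · exact ((key φ hφ r1 n1 _).2 e).trans ((key ψ hψ r2 n2 _).2 e).symm

theorem exists_nonreal (hk : 2 < Nat.card K) : ∃ φ, IsIrr K φ ∧ star φ ≠ φ := by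
  classical
  by_contra hn
  push Not at hn
  have h1 : ((Irr K).erase (cf1 K)).card ≤ 1 := Finset.card_le_one.2 fun a ha b hb => by
    rw [Finset.mem_erase, mem_Irr] at ha hb
    exact h.real_unique ha.2 (hn a ha.2) ha.1 hb.2 (hn b hb.2) hb.1
  rw [Finset.card_erase_of_mem (cf1_mem_Irr K), card_Irr_abelian h.ab] at h1
  omega

theorem three (d : Dec K φ v w) {ψ₁ ψ₂ : G → ℂ} (h1 : IsIrr K ψ₁) (n1 : star ψ₁ ≠ ψ₁)
    (h2 : IsIrr K ψ₂) (n2 : star ψ₂ ≠ ψ₂) (e1 : ⟪w, eta K ψ₁⟫[⊤] ≠ 1) : ⟪v, eta K ψ₂⟫[⊤] = 1 := by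
  by_contra e2
  obtain ⟨a1, a2, -⟩ := d.symm.dich h h1 (ne_cf1_of_nr n1) e1
  obtain ⟨b1, b2, -⟩ := d.dich h h2 (ne_cf1_of_nr n2) e2
  have d1 := h.dec_of_dot h1 n1 d.hv a2
  have d2 := h.dec_of_dot h2 n2 d.hw b2
  have c1 := (d1.dich h h2 (ne_cf1_of_nr n2) e2).2.1
  rw [d2.eq, cfdotDr, cfdotBl, cfdot_symm0 a1, d.orth, sub_zero, zero_add,
    cfdot_dirr_eq1 d1.hw d2.hw] at c1
  have c2 := d.one_add h
  have c3 := d1.one_add h
  have c4 := d2.one_add h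
  rw [c1] at c3
  obtain ⟨z, hz⟩ := Cint_vchar1 d.hv.vchar
  have : ((2 * z : ℤ) : ℂ) = (-1 : ℤ) := by
    push_cast
    linear_combination c2 + c3 - c4 - 2 * hz
  have := Int.cast_injective this
  omega

theorem not_bad (d : Dec K φ v w) (hb : ∀ ψ, IsIrr K ψ → star ψ ≠ ψ → ⟪w, eta K ψ⟫[⊤] = 1)
    {ε : G → ℂ} (hε : IsIrr K ε) (r : star ε = ε) (n : ε ≠ cf1 K) (e : ⟪w, eta K ε⟫[⊤] = 0)
    (hψ : IsIrr K ψ) (nr : star ψ ≠ ψ) : ψ = φ ∨ ψ = star φ := by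
  classical
  set N := (Irr K).filter fun ψ => star ψ ≠ ψ
  have hN : ∀ ψ, ψ ∈ N ↔ IsIrr K ψ ∧ star ψ ≠ ψ := fun ψ => by simp [N]
  have h1 : (Irr K).filter (fun ψ => ¬ star ψ ≠ ψ) = {cf1 K, ε} := by
    ext χ
    simp only [Finset.mem_filter, mem_Irr, not_not, Finset.mem_insert, Finset.mem_singleton]
    refine ⟨fun hχ => or_iff_not_imp_left.2 fun e => h.real_unique hχ.1 hχ.2 e hε r n, ?_⟩
    rintro (rfl | rfl)
    exacts [⟨isIrr_cf1 K, star_cf1 K⟩, ⟨hε, r⟩]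
  have h2 : w t = -∑ ψ ∈ N, ψ t := by
    rw [h.apply_eq d.hw.mem_CF d.symm.dot_one h.tK, cfReg_of_ne _ h.t1,
      ← Finset.sum_filter_add_sum_filter_not _ fun ψ => star ψ ≠ ψ, h1, Finset.sum_pair n.symm,
      e, eta_cf1, cfdotNr, d.symm.dot_one, Finset.sum_congr rfl (g := fun ψ => ψ t) fun ψ hψ => by
        rw [hb ψ ((hN ψ).1 hψ).1 ((hN ψ).1 hψ).2, one_mul]]
    ring
  have h3 : w t = 1 + ε t := by
    have := h.sum_apply (y := t)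
    rw [cfReg_of_ne _ h.t1, ← Finset.sum_filter_add_sum_filter_not _ fun ψ => star ψ ≠ ψ, h1,
      Finset.sum_pair n.symm, cf1E h.tK] at this
    linear_combination h2 - this
  have h4 : ∀ ψ ∈ N, ((centralizer ({t} : Set G)).index : ℂ) * (w 1 * (-1 - w 1) +
      w t ^ 2 * (-1 - w 1) + (-2 * ψ t - ε t) ^ 2 * w 1) =
      2 * (Nat.card K : ℂ) ^ 2 * w 1 * (-1 - w 1) := fun ψ hψ => by
    obtain ⟨a, b⟩ := (hN ψ).1 hψ
    have d' := h.dec_of_dot a b d.hw (hb ψ a b)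
    have := h.order a (ne_cf1_of_nr b) d'.hv d'.hw d'.eq
    rw [Pi.sub_apply, Pi.sub_apply, h.eta_one a, h.eta_apply a h.tK, h.conj_t a] at this
    rw [← this, h3]
    ring
  have hφN := (hN φ).2 ⟨d.irr, d.nr⟩
  have h5 : ∀ ψ ∈ N, ψ t = φ t := fun ψ hψ => by
    have e1 := (h4 ψ hψ).trans (h4 φ hφN).symm
    rw [mul_right_inj' (Nat.cast_ne_zero.2 index_ne_zero_of_finite), add_right_inj,
      mul_left_inj' d.hw.one_ne_zero] at e1
    rcases h.real_apply ((hN ψ).1 hψ).1 h.tK (h.conj_t ((hN ψ).1 hψ).1) with e2 | e2 <;>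
    rcases h.real_apply d.irr h.tK (h.conj_t d.irr) with e3 | e3 <;>
    rcases h.real_apply hε h.tK (h.conj_t hε) with e4 | e4 <;>
    rw [e2, e3, e4] at e1 <;> rw [e2, e3] <;> norm_num at e1
  rw [Finset.sum_congr rfl h5, Finset.sum_const, h3, nsmul_eq_mul] at h2
  have h6 : N.card ≤ 2 := by
    have e1 := congrArg norm h2
    have e2 := norm_add_le 1 (ε t)
    rw [norm_neg, norm_mul, normC_lin_char (h.lin d.irr) h.tK, mul_one, Complex.norm_natCast] at e1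
    rw [e1, normC_lin_char (h.lin hε) h.tK, norm_one, one_add_one_eq_two] at e2
    exact_mod_cast e2
  by_contra hn
  push Not at hn
  exact h6.not_gt (Finset.two_lt_card_iff.2 ⟨ψ, φ, star φ, (hN ψ).2 ⟨hψ, nr⟩, hφN,
    (hN _).2 ⟨d.irr.star, by rw [star_star]; exact d.nr.symm⟩, hn.1, hn.2, d.nr.symm⟩)

theorem common_aux (d : Dec K φ v w) (hb : ∀ ψ, IsIrr K ψ → star ψ ≠ ψ → ⟪w, eta K ψ⟫[⊤] = 1) :
    ∃ v w, Dec K φ v w ∧ ∀ ψ, IsIrr K ψ → ψ ≠ cf1 K → ⟪v, eta K ψ⟫[⊤] = 1 := by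
  by_cases h1 : ∀ ψ, IsIrr K ψ → ψ ≠ cf1 K → ⟪w, eta K ψ⟫[⊤] = 1
  · exact ⟨w, v, d.symm, h1⟩
  push Not at h1
  obtain ⟨ε, hε, n, e⟩ := h1
  have r : star ε = ε := by_contra fun r => e (hb ε hε r)
  obtain ⟨a, b, -⟩ := d.symm.dich h hε n e
  refine ⟨v, w, d, fun ψ hψ n' => ?_⟩
  by_cases r' : star ψ = ψ
  · rw [h.real_unique hψ r' n' hε r n, b]
  · rcases h.not_bad d hb hε r n a hψ r' with rfl | rfl
    · exact d.dot_self
    · rw [h.eta_star d.irr, d.dot_self]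

theorem exists_common (hk : 2 < Nat.card K) :
    ∃ φ v w, Dec K φ v w ∧ ∀ ψ, IsIrr K ψ → ψ ≠ cf1 K → ⟪v, eta K ψ⟫[⊤] = 1 := by
  obtain ⟨φ, hφ, nr⟩ := h.exists_nonreal hk
  obtain ⟨v, w, d⟩ := h.exists_dec hφ nr
  refine ⟨φ, ?_⟩
  by_cases hb : ∀ ψ, IsIrr K ψ → star ψ ≠ ψ → ⟪w, eta K ψ⟫[⊤] = 1
  · exact h.common_aux d hb
  · push Not at hb
    obtain ⟨ψ, h1, n1, e⟩ := hb
    exact h.common_aux d.symm fun χ h2 n2 => h.three d h1 n1 h2 n2 e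

end Hyp

end Cfsg.Agent.ODD
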