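import Mathlib
import Cfsg.Agent.Lib.ODD.Char2
import Cfsg.Agent.Lib.ODD.Abel

/-!
The order of `G` and the elements of order dividing `f`.
-/

set_option autoImplicit false

namespace Cfsg.Agent.ODD

open Subgroup OO
open scoped ComplexConjugate

universe u

theorem arith1 {i k a : ℤ} (hi : Odd i) (e : i * a ^ 2 = 2 * (a * k + 1) * (a * k + 2)) :
    (a = 2 ∧ i = (2 * k + 1) * (k + 1)) ∨ (a = -2 ∧ i = (2 * k - 1) * (k - 1)) := by
  have h1 : Even a := by
    by_contra h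
    have := hi.mul ((Int.not_even_iff_odd.1 h).pow (n := 2))
    rw [e, mul_assoc] at this
    exact Int.not_even_iff_odd.2 this (even_two_mul _)
  obtain ⟨b, rfl⟩ := h1
  have h2 : i * b ^ 2 = (2 * b * k + 1) * (b * k + 1) := by linarith
  have h3 : IsCoprime (b ^ 2) ((2 * b * k + 1) * (b * k + 1)) :=
    (IsCoprime.mul_right ⟨-(2 * k), 1, by ring⟩ ⟨-k, 1, by ring⟩).pow_left
  have h4 := h3.isUnit_of_dvd (h2 ▸ Dvd.intro_left i rfl)
  rcases Int.isUnit_iff.1 ((isUnit_pow_iff two_ne_zero).1 h4) with rfl | rfl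
  · exact Or.inl ⟨by norm_num, by linarith⟩
  · exact Or.inr ⟨by norm_num, by linarith⟩

theorem arith2 {c f l : ℕ} {p : ℤ} (hc : f.Coprime l) (h1 : (c : ℤ) ∣ l * p)
    (h2 : (c : ℤ) ∣ f * (-1 - p)) (h3 : 1 + p ^ 2 + (-1 - p) ^ 2 ≤ c) :
    (p = 0 ∧ c ∣ f) ∨ (p = -1 ∧ c ∣ l) := by
  obtain ⟨x, y, e⟩ := Nat.isCoprime_iff_coprime.2 hc
  have h4 : (c : ℤ) ∣ p * (-1 - p) := by
    have := (h2.mul_left (x * p)).add (h1.mul_left (y * (-1 - p)))
    rwa [show x * p * (f * (-1 - p)) + y * (-1 - p) * (l * p) = p * (-1 - p) by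
      linear_combination (p * (-1 - p)) * e] at this
  have h5 := Int.eq_zero_of_abs_lt_dvd h4 (abs_lt.2 ⟨by nlinarith, by nlinarith⟩)
  rcases mul_eq_zero.1 h5 with rfl | h
  · exact Or.inl ⟨rfl, Int.natCast_dvd_natCast.1 (by simpa using h2)⟩
  · obtain rfl : p = -1 := by linarith
    exact Or.inr ⟨rfl, Int.natCast_dvd_natCast.1 (by simpa using h1)⟩

variable {G : Type u} [Group G] [Finite G]

theorem dirr_dvd {v : G → ℂ} (hv : IsDirr ⊤ v) {y : G} {x p : ℤ} (h1 : v 1 = x) (h2 : v y = p) :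
    x * Nat.card (centralizer ({y} : Set G)) ∣ Nat.card G * p := by
  have h0 : x ≠ 0 := by rintro rfl; exact hv.one_ne_zero (by simpa using h1)
  have h3 : IsIntegral ℤ ((((centralizer ({y} : Set G)).index * p : ℤ) : ℂ) / x) := by
    rcases hv with h | h <;> have := Aint_class_div_irr1 h y <;>
    simp only [top_inf_eq, relIndex_top_right, Pi.neg_apply, h1, h2, mul_neg, neg_div_neg_eq] at this <;>
    exact_mod_cast this
  rw [← (centralizer ({y} : Set G)).card_mul_index, mul_comm x, Nat.cast_mul, mul_assoc]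
  exact mul_dvd_mul_left _ (int_dvd_of_Aint_div h0 h3)

theorem Dec.bound {K : Subgroup G} {φ v w : G → ℂ} (d : Dec K φ v w) (y : G) :
    1 + ‖v y‖ ^ 2 + ‖w y‖ ^ 2 ≤ Nat.card (centralizer ({y} : Set G)) := by
  classical
  obtain ⟨a, ha, χ, hχ, rfl⟩ := d.hv.exists_sign
  obtain ⟨b, hb, ψ, hψ, rfl⟩ := d.hw.exists_sign
  have a0 : ‖a‖ = 1 := by rcases ha with rfl | rfl <;> simp
  have b0 : ‖b‖ = 1 := by rcases hb with rfl | rfl <;> simp
  have key : ∀ {c : ℂ} {χ : G → ℂ}, ‖c‖ = 1 → ⟪c • χ, cf1 ⊤⟫[⊤] = 0 → cf1 ⊤ ≠ χ := by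
    rintro c _ hc e rfl
    rw [cfdotZl, cfdot_cf1, mul_one] at e
    simp [e] at hc
  have h1 : χ ≠ ψ := by
    rintro rfl
    have := congrArg norm d.orth
    rw [cfdotZl, cfdotZr, cfdot_irr_self hχ] at this
    simp [a0, b0] at this
  have h2 := sum_irr_norm_sq (mem_top y)
  rw [top_inf_eq] at h2
  rw [← h2]
  refine le_trans (le_of_eq ?_) (Finset.sum_le_sum_of_subset_of_nonneg (s := {cf1 ⊤, χ, ψ})
    (fun x hx => ?_) fun _ _ _ => sq_nonneg _)
  · rw [Finset.sum_insert (by simp [key a0 d.dot_one, key b0 d.symm.dot_one]), Finset.sum_pair h1,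
      cf1E (mem_top y)]
    simp [a0, b0, add_assoc]
  · simp only [Finset.mem_insert, Finset.mem_singleton] at hx
    rcases hx with rfl | rfl | rfl
    exacts [cf1_mem_Irr ⊤, mem_Irr.2 hχ, mem_Irr.2 hψ]

namespace Hyp

variable {K : Subgroup G} {t s : G} (h : Hyp K t s) {φ v w : G → ℂ} (d : Dec K φ v w)
  (hc : ∀ ψ, IsIrr K ψ → ψ ≠ cf1 K → ⟪v, eta K ψ⟫[⊤] = 1)
include h d hc

theorem exists_coef : ∃ a : ℤ, ∀ y ∈ K, v y = a * cfReg K y + 1 := by
  classical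
  obtain ⟨c, e⟩ := Cint_cfdot_vchar (cfRes_vchar (H := K) le_top d.hv.vchar) (cf1_vchar K)
  rw [cfdot_cfRes_left] at e
  refine ⟨c - 1, fun y hy => ?_⟩
  have := h.sum_apply (y := y)
  rw [← Finset.add_sum_erase _ _ (cf1_mem_Irr K), cf1E hy] at this
  rw [h.apply_eq d.hv.mem_CF d.dot_one hy, ← Finset.add_sum_erase _ _ (cf1_mem_Irr K), eta_cf1,
    cfdotNr, d.dot_one, e, Finset.sum_congr rfl (g := fun ψ => ψ y) fun ψ hψ => by
      rw [Finset.mem_erase, mem_Irr] at hψ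
      rw [hc ψ hψ.2 hψ.1, one_mul]]
  push_cast
  linear_combination -this

theorem apply_K {y g : G} (y1 : y ≠ 1) (hy : g * y * g⁻¹ ∈ K) : v y = 1 := by
  obtain ⟨a, ha⟩ := h.exists_coef d hc
  rw [← cfunJ d.hv.mem_CF (mem_top g), ha _ hy, cfReg_of_ne _ (fun e => y1 (conj_eq_one_iff.1 e)),
    mul_zero, zero_add]

theorem degree : (v 1 = 2 * Nat.card K + 1 ∧
      (centralizer ({t} : Set G)).index = (2 * Nat.card K + 1) * (Nat.card K + 1)) ∨
    (v 1 = -(2 * Nat.card K - 1) ∧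
      ((centralizer ({t} : Set G)).index : ℤ) = (2 * Nat.card K - 1) * (Nat.card K - 1)) := by
  obtain ⟨a, ha⟩ := h.exists_coef d hc
  have h1 := ha 1 (one_mem _)
  have h2 := ha t h.tK
  rw [cfReg_one] at h1
  rw [cfReg_of_ne _ h.t1, mul_zero, zero_add] at h2
  have h3 : w t ^ 2 = 4 := by
    have := congrFun d.eq t
    rw [h.eta_apply d.irr h.tK, h.conj_t d.irr, Pi.add_apply, h2] at this
    rw [show w t = -2 * φ t by linear_combination -this]
    rcases h.real_apply d.irr h.tK (h.conj_t d.irr) with e | e <;> rw [e] <;> norm_num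
  have h4 := h.order d.irr (ne_cf1_of_nr d.nr) d.hv d.hw d.eq
  rw [h2, h3, eq_sub_of_add_eq' (d.one_add h), h1] at h4
  have h5 : (((centralizer ({t} : Set G)).index * a ^ 2 : ℤ) : ℂ) =
      (2 * (a * Nat.card K + 1) * (a * Nat.card K + 2) : ℤ) := by
    refine mul_left_cancel₀ (pow_ne_zero 2 (cardC_ne_zero K)) ?_
    push_cast
    linear_combination -h4
  rcases arith1 (by exact_mod_cast h.odd_index) (Int.cast_injective h5) with ⟨rfl, e⟩ | ⟨rfl, e⟩
  · exact Or.inl ⟨by rw [h1]; norm_num, by exact_mod_cast e⟩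
  · exact Or.inr ⟨by rw [h1]; push_cast; ring, e⟩

theorem aut_eq (u : ℂ ≃+* ℂ) : cfAut u v = v := by
  have h1 : ⟪cfAut u v, eta K φ⟫[⊤] = 1 := by
    rw [← cfAutKV u φ, ← eta_aut, cfdot_aut_vchar' u d.hv.vchar (eta_vchar (d.irr.cfAut _))]
    exact hc _ (d.irr.cfAut _) fun e => ne_cf1_of_nr d.nr (by rw [← cfAutKV u φ, e, cfAut_cf1])
  obtain ⟨x, hx⟩ := Cint_vchar1 d.hv.vchar
  have h2 : cfAut u v 1 = x := by rw [cfAut, hx, map_intCast]
  rw [d.eq, cfdotDr] at h1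
  rw [← cfdot_dirr_eq1 (d.hv.cfAut u) d.hv]
  by_contra hn
  have h3 : ⟪cfAut u v, w⟫[⊤] = 1 := by
    rcases cfdot_dirr_cases (d.hv.cfAut u) d.hv with e | e | e <;>
    rcases cfdot_dirr_cases (d.hv.cfAut u) d.hw with e' | e' | e' <;>
    first | assumption | exact (hn e).elim | (rw [e, e'] at h1; norm_num at h1)
  have h4 := d.one_add h
  rw [← (cfdot_dirr_eq1 (d.hv.cfAut u) d.hw).1 h3, h2, hx] at h4
  have : x + x = -1 := by exact_mod_cast h4
  omega

theorem off {f l : ℕ} (hfl : f.Coprime l) (hG : Nat.card G = 2 * Nat.card K * (f * l)) {x : ℤ}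
    (hx : v 1 = x) (h1 : (f : ℤ) ∣ x) (h2 : (2 * l : ℤ) ∣ -1 - x) {y : G}
    (hy : ∀ g : G, g * y * g⁻¹ ∉ K) :
    (v y = 0 ∧ Nat.card (centralizer ({y} : Set G)) ∣ f) ∨
      (v y = -1 ∧ Nat.card (centralizer ({y} : Set G)) ∣ l) := by
  obtain ⟨p, hp⟩ := isCint_of_forall_aut (Aint_vchar d.hv.vchar y)
    fun u => congrFun (h.aut_eq d hc u) y
  have h3 : w y = (-1 - p : ℤ) := by
    have := congrFun d.eq y
    rw [eta_off d.irr hy, Pi.add_apply, hp] at this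
    push_cast
    linear_combination -this
  have h4 : w 1 = (-1 - x : ℤ) := by
    push_cast
    linear_combination d.one_add h - hx
  have hG0 : Nat.card G ≠ 0 := Nat.card_pos.ne'
  have f0 : (f : ℤ) ≠ 0 := by rintro e; simp_all
  have l0 : (2 * l : ℤ) ≠ 0 := by rintro e; simp_all
  have e1 := (mul_dvd_mul_right h1 _).trans (dirr_dvd d.hv hx hp)
  have e2 := (mul_dvd_mul_right h2 _).trans (dirr_dvd d.hw h4 h3)
  rw [hG] at e1 e2
  have c1 := Nat.isCoprime_iff_coprime.2 (h.coprime_cent' hy)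
  have c2 := Nat.isCoprime_iff_coprime.2 (h.coprime_cent hy)
  have e3 := d.bound y
  rw [hp, h3, Complex.norm_intCast, Complex.norm_intCast, sq_abs, sq_abs] at e3
  rcases arith2 (p := p) hfl
    (c1.dvd_of_dvd_mul_left ((mul_dvd_mul_iff_left f0).1 (by convert e1 using 1; push_cast; ring)))
    (c2.dvd_of_dvd_mul_left ((mul_dvd_mul_iff_left l0).1 (by convert e2 using 1; push_cast; ring)))
    (by exact_mod_cast e3) with ⟨rfl, e⟩ | ⟨rfl, e⟩
  · exact Or.inl ⟨by simpa using hp, e⟩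
  · exact Or.inr ⟨by simpa using hp, e⟩

theorem unip_aux {m l : ℕ} (hm : 0 < m) (hl : Nat.card K * l = m * (m + 1)) {x : ℤ} (hx : v 1 = x)
    (hG : Nat.card G = 2 * Nat.card K * ((2 * m + 1) * l))
    (h1 : x = 2 * m + 1 ∨ x = -(2 * m + 1)) (h2 : (2 * l : ℤ) ∣ -1 - x) : Unip G m := by
  classical
  have c0 : (2 * m + 1).Coprime (m * (m + 1)) := (Unip.coprime (m := m)).coprime_dvd_right
    ⟨2, by ring⟩
  have c1 : (2 * m + 1).Coprime l := c0.coprime_dvd_right (hl ▸ Dvd.intro_left _ rfl)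
  have c2 : (2 * m + 1).Coprime (Nat.card K) := c0.coprime_dvd_right (hl ▸ Dvd.intro _ rfl)
  have hoff := fun y => h.off d hc c1 hG hx
    (by rcases h1 with e | e <;> rw [e] <;> push_cast; exacts [dvd_rfl, dvd_rfl.neg_right]) h2 (y := y)
  have ho : ∀ y : G, orderOf y ∣ Nat.card (centralizer ({y} : Set G)) := fun y =>
    orderOf_dvd_natCard _ (Cls.self_mem_centralizer_single y)
  have h3 : ∀ y : G, y ≠ 1 → y ^ (2 * m + 1) = 1 →
      v y = 0 ∧ Nat.card (centralizer ({y} : Set G)) ∣ 2 * m + 1 := fun y y1 hy => by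
    rw [← orderOf_dvd_iff_pow_eq_one] at hy
    refine (hoff y fun g hg => y1 (orderOf_eq_one_iff.1 (Nat.eq_one_of_dvd_coprimes c2 hy ?_)))
      |>.resolve_right fun e => y1 (orderOf_eq_one_iff.1
        (Nat.eq_one_of_dvd_coprimes c1 hy ((ho y).trans e.2)))
    rw [← (MulAut.conj g).orderOf_eq y]
    exact K.orderOf_dvd_natCard hg
  have h4 : ∀ y : G, y ≠ 1 → y ^ (2 * m + 1) ≠ 1 → ‖v y‖ = 1 := fun y y1 hy => by
    by_cases hg : ∃ g : G, g * y * g⁻¹ ∈ K
    · obtain ⟨g, hg⟩ := hg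
      rw [h.apply_K d hc y1 hg, norm_one]
    · push Not at hg
      rw [((hoff y hg).resolve_left fun e =>
        hy (orderOf_dvd_iff_pow_eq_one.1 ((ho y).trans e.2))).1, norm_neg, norm_one]
  refine ⟨hm, by rw [hG]; linear_combination 2 * (2 * m + 1) * hl, ?_, fun y y1 hy => (h3 y y1 hy).2⟩
  set R := {y : G | y ≠ 1 ∧ y ^ (2 * m + 1) = 1}
  have h5 := d.hv.cfnorm
  rw [cfnorm, inv_mul_eq_one₀ (cardR_pos ⊤).ne', ← card_elts, Finset.card_eq_sum_ones,
    Nat.cast_sum, ← sub_eq_zero, ← Finset.sum_sub_distrib,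
    ← sum_elts_subset (A := insert 1 R) (fun x _ => mem_top x) fun y _ hy => by
      rw [Set.mem_insert_iff, not_or] at hy
      rw [h4 y hy.1 fun e => hy.2 ⟨hy.1, e⟩]; simp,
    show elts (insert 1 R) = insert 1 (elts R) by ext; simp,
    Finset.sum_insert (by simp [R]), Finset.sum_congr rfl (g := fun _ => 1) fun y hy => by
      rw [(h3 y (mem_elts.1 hy).1 (mem_elts.1 hy).2).1]; simp,
    Finset.sum_const, card_elts_set, hx, Complex.norm_intCast, sq_abs] at h5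
  have h6 : (x : ℝ) ^ 2 = (2 * m + 1) ^ 2 := by
    rcases h1 with e | e <;> rw [e] <;> push_cast <;> ring
  have : (R.ncard : ℝ) = (2 * (m * (2 * m + 2)) : ℕ) := by
    simp only [Nat.cast_one, nsmul_eq_mul, mul_one] at h5
    push_cast
    linarith
  exact_mod_cast this

omit d hc in
theorem unip (hk : 2 < Nat.card K) :
    Unip G (Nat.card K) ∨ ∃ m, Nat.card K = m + 1 ∧ Unip G m := by
  obtain ⟨φ, v, w, d, hc⟩ := h.exists_common hk
  rcases h.degree d hc with ⟨h1, h2⟩ | ⟨h1, h2⟩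
  · exact Or.inl (h.unip_aux d hc (l := Nat.card K + 1) (x := 2 * Nat.card K + 1) (by omega) rfl
      (by rw [h1]; push_cast; rfl) (by rw [h.card_eq, h2]) (Or.inl rfl) ⟨-1, by push_cast; ring⟩)
  · obtain ⟨m, hm⟩ : ∃ m, Nat.card K = m + 1 := ⟨Nat.card K - 1, by omega⟩
    refine Or.inr ⟨m, hm, h.unip_aux d hc (l := m) (x := -(2 * m + 1)) (by omega)
      (by rw [hm, mul_comm]) (by rw [h1, hm]; push_cast; ring) ?_ (Or.inr rfl) ⟨1, by ring⟩⟩
    rw [h.card_eq]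
    congr 1
    rw [hm] at h2
    zify
    rw [h2]
    push_cast
    ring

end Hyp

end Cfsg.Agent.ODD
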