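import Mathlib
import Cfsg.Agent.Lib.ODD.Char3
import Cfsg.Agent.Lib.ODD.Zass
import Cfsg.Agent.Lib.BSW.Main
import Cfsg.Agent.Lib.R1.Hyp

/-!
The Brauer-Suzuki-Wall theorem, odd case.
-/

set_option autoImplicit false

namespace Cfsg.Agent.ODD

open Subgroup

universe u

variable {G : Type u} [Group G] [Finite G]

namespace Hyp

variable {K : Subgroup G} {t s : G} (h : Hyp K t s)
include h

theorem card_eq_sixty (hk : Nat.card K = 2) (h2 : pCore 2 G = ⊥) : Nat.card G = 60 := by
  set H := centralizer ({t} : Set G)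
  have hH : Nat.card H = 4 := by rw [h.card_cent, hk]
  have hab : IsMulCommutative H :=
    IsPGroup.isMulCommutative_of_card_eq_prime_sq (p := 2) (by rw [hH]; norm_num)
  have hsq : ∀ x ∈ H, x * x = 1 := fun x hx => by
    by_cases hK : x ∈ K
    · exact (sq x).symm.trans (congrArg Subtype.val (hk ▸ pow_card_eq_one' (x := (⟨x, hK⟩ : K))))
    · exact h.mul_self_of_not_mem (Cls.mem_centralizer_single.1 hx) hK
  have hc : ∀ z ∈ H, z ≠ 1 → centralizer ({z} : Set G) = H := fun z hz z1 =>
    (eq_of_le_of_card_ge (fun x hx => Cls.mem_centralizer_single.2 (BSW.comm_of_mem hab hx hz))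
      (Cls.card_centralizer_of_isConj (h.one_class _ _ h.t1 h.t2 z1 (hsq z hz))).le).symm
  have hI : BSW.HypI H := ⟨fun z hz z1 _ g => by rw [← Cls.mem_centralizer_single, hc z hz z1],
    t, Cls.self_mem_centralizer_single t, h.t1, h.t2⟩
  obtain ⟨w, hw, w2⟩ := hI.exists_inv_not_mem fun e => by
    have := normalizer_eq_top_iff.1 e
    have h1 : H ≤ ⊥ := h2 ▸ Core.le_pCore (IsPGroup.of_card (n := 2) hH)
    exact h.t1 (h1 (Cls.self_mem_centralizer_single t))
  have hC : BSW.HypC H w :=
    { hI with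
      cc := fun x hx x1 g e => hc x hx x1 ▸ Cls.mem_centralizer_single.2 e
      ne_norm := by
        obtain ⟨g, hg⟩ := isConj_iff.1 (h.one_class t s h.t1 h.t2 (fun e => h.sK (e ▸ one_mem _)) h.s2)
        refine ⟨g, hI.mem_norm_of_conj (Cls.self_mem_centralizer_single t) h.t1 h.t2
          (hg ▸ Cls.mem_centralizer_single.2 h.s_comm), fun e => h.sK ?_⟩
        rw [← hg, Cls.mem_centralizer_single.1 e, mul_inv_cancel_right]
        exact h.tK
      t_not_mem := hw
      t2 := w2 }
  obtain ⟨n, -, h3, h4, -⟩ := hC.main fun x hx j hj => BSW.comm_of_mem hab hx (hC.K_conj_mem hj hx)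
  rw [hC.card_eq, h4, ← h3, hH]

theorem data_of_two (hk : Nat.card K = 2) (h0 : pPrimeCore 2 G = ⊥) (h2 : pCore 2 G = ⊥) :
    ∃ P : Subgroup G, Data P 2 := by
  have hG := h.card_eq_sixty hk h2
  have := Fact.mk Nat.prime_five
  obtain ⟨P⟩ : Nonempty (Sylow 5 G) := inferInstance
  have hP : Nat.card P = 5 := by
    rw [P.card_eq_multiplicity, hG, show 60 = 5 * 12 from rfl, Nat.factorization_mul (by decide) (by decide),
      Finsupp.add_apply, Nat.prime_five.factorization_self,
      Nat.factorization_eq_zero_of_not_dvd (by decide)]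
    rfl
  have h1 : (normalizer ((P : Subgroup G) : Set G)).index = 6 := by
    have e1 := card_sylow_modEq_one 5 G
    have e2 := P.card_dvd_index
    have e3 := (P : Subgroup G).card_mul_index
    rw [hP, hG] at e3
    rw [show (P : Subgroup G).index = 12 by omega] at e2
    rw [P.card_eq_index_normalizer] at e1 e2
    have e4 : (normalizer ((P : Subgroup G) : Set G)).index ≠ 1 := fun e => by
      have := normalizer_eq_top_iff.1 (index_eq_one.1 e)
      have h1 := le_bot_iff.1 (h0 ▸ Core.le_pPrimeCore (N := (P : Subgroup G)) (by rw [hP]; decide))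
      rw [h1, card_bot] at hP
      omega
    change (normalizer ((P : Subgroup G) : Set G)).index % 5 = 1 at e1
    change (normalizer ((P : Subgroup G) : Set G)).index ∣ 12 at e2
    generalize (normalizer ((P : Subgroup G) : Set G)).index = n at *
    have := Nat.le_of_dvd (by decide) e2
    interval_cases n <;> omega
  have hab : IsMulCommutative (P : Subgroup G) := (isCyclic_of_prime_card hP).isMulCommutative
  refine ⟨P, by decide, hG, hP, fun x hx x1 g => ?_, h1.le⟩
  have ho : orderOf x = 5 := ((Nat.dvd_prime Nat.prime_five).1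
    (hP ▸ (P : Subgroup G).orderOf_dvd_natCard hx)).resolve_left (by simpa using x1)
  have hz : zpowers x = P := eq_of_le_of_card_ge (zpowers_le.2 hx) (by rw [Nat.card_zpowers, ho, hP])
  have h3 : (P : Subgroup G) ≤ centralizer {x} := fun z hz =>
    Cls.mem_centralizer_single.2 (BSW.comm_of_mem hab hz hx)
  have h4 := h.coprime_cent (y := x) fun g hg => by
    have := K.orderOf_dvd_natCard hg
    rw [show orderOf (g * x * g⁻¹) = orderOf x from (MulAut.conj g).orderOf_eq x, ho, hk] at this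
    omega
  have h5 : Nat.card (centralizer ({x} : Set G)) ∣ 5 * 2 := by
    have e := (normalizer ((P : Subgroup G) : Set G)).card_mul_index
    rw [h1, hG] at e
    rw [show 5 * 2 = Nat.card (normalizer ((P : Subgroup G) : Set G)) by omega]
    refine card_dvd_of_le ?_
    rw [← Cls.centralizer_zpowers, hz]
    exact centralizer_le_normalizer _
  rw [hk] at h4
  rw [← Cls.mem_centralizer_single, ← eq_of_le_of_card_ge h3
    (hP.ge.trans' (Nat.le_of_dvd (by decide) (h4.dvd_of_dvd_mul_right h5)))]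

theorem main (h0 : pPrimeCore 2 G = ⊥) (h2 : pCore 2 G = ⊥) :
    ∃ (F : Type) (_ : Field F) (_ : Fintype F), Odd (Fintype.card F) ∧ 5 ≤ Fintype.card F ∧
      (2 * Nat.card K + 1 = Fintype.card F ∨ 2 * Nat.card K = Fintype.card F + 1) ∧
      Nonempty (G ≃* Matrix.ProjectiveSpecialLinearGroup (Fin 2) F) := by
  have h1 := h.two_dvd
  have h3 : 0 < Nat.card K := Nat.card_pos
  obtain ⟨m, P, hP, hm, hK⟩ : ∃ m, ∃ P : Subgroup G, Data P m ∧ 2 ≤ m ∧
      (Nat.card K = m ∨ Nat.card K = m + 1) := by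
    by_cases hk : Nat.card K = 2
    · obtain ⟨P, hP⟩ := h.data_of_two hk h0 h2
      exact ⟨2, P, hP, le_rfl, Or.inl hk⟩
    rcases h.unip (by omega) with hu | ⟨m, hm, hu⟩ <;> obtain ⟨P, hP⟩ := hu.exists_data
    · exact ⟨_, P, hP, by omega, Or.inl rfl⟩
    · exact ⟨_, P, hP, by omega, Or.inr hm⟩
  obtain ⟨F, _, _, hF, e⟩ := hP.main h h0
    (hK.imp (fun (e : Nat.card K = m) => even_iff_two_dvd.2 (e ▸ h1)) fun e => by simp [e])
  exact ⟨F, inferInstance, inferInstance, ⟨m, hF⟩, by omega, by omega, e⟩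

end Hyp

end Cfsg.Agent.ODD

namespace Cfsg.Agent.R1

universe u

theorem bswOdd : BSWodd.{u} := fun _ _ _ _ _ _ h1 h2 h3 h4 h5 h6 h7 h8 h9 h0 h0' =>
  ODD.Hyp.main ⟨h1, h2, h3, h4, h5, h6, h7, h8, h9⟩ h0 h0'

end Cfsg.Agent.R1
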